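import Groth.Agent.Lefpen.H527.QuotStr
import Groth.Agent.EtDl.K556.CertDef

/-!
# The modification of `Spec R` by two proportional linear forms

`R` a ring, `a * d = b * c`.  The closed subscheme of `P^1_R` cut out by `a X₀ = b X₁`, `c X₀ = d X₁` is proper and
surjective over `Spec R`, and is covered by the two open subschemes `Spec R[T]/(a - bT, c - dT)` and
`Spec R[T]/(aT - b, cT - d)`.
-/

set_option autoImplicit false
open CategoryTheory AlgebraicGeometry
open Groth.Agent.Sga5.ProjChart Groth.Agent.Sga5.ProjSmooth Groth.Agent.Sga5.ProjSurj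
open Groth.Agent.Lefpen.H713.GrQuot Groth.Agent.Lefpen.H527.QuotProj
universe u

namespace K852.PMod

/-- the kernel of `A → B → B / I` -/
theorem ker_eq {A B : Type u} [CommRing A] [CommRing B] (ev : A →+* B) (li : B →+* A) (s : A)
    (h : ∀ p, p - li (ev p) ∈ Ideal.span {s - 1}) (hs : ev s = 1) (J : Ideal A) (I : Ideal B)
    (hJ : J.map ev ≤ I) (hI : I.map li ≤ J ⊔ Ideal.span {s - 1}) :
    RingHom.ker ((Ideal.Quotient.mk I).comp ev) = J ⊔ Ideal.span {s - 1} := by
  apply le_antisymm
  · intro p hp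
    have h1 : ev p ∈ I := Ideal.Quotient.eq_zero_iff_mem.1 hp
    have h2 : li (ev p) ∈ J ⊔ Ideal.span {s - 1} := hI (Ideal.mem_map_of_mem li h1)
    have h3 : p = (p - li (ev p)) + li (ev p) := by ring
    rw [h3]
    exact Ideal.add_mem _ (Ideal.mem_sup_right (h p)) h2
  · refine sup_le ?_ ?_
    · intro p hp
      exact Ideal.Quotient.eq_zero_iff_mem.2 (hJ (Ideal.mem_map_of_mem ev hp))
    · rw [Ideal.span_le, Set.singleton_subset_iff]
      change Ideal.Quotient.mk I (ev (s - 1)) = 0
      rw [map_sub, hs, map_one, sub_self, map_zero]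

section

variable {R : Type u} [CommRing R] (a b c d : R)

/-- the two linear forms -/
noncomputable def lf (a b : R) : MvPolynomial (Fin (1 + 1)) R :=
  MvPolynomial.C a * MvPolynomial.X 0 - MvPolynomial.C b * MvPolynomial.X 1

theorem lf_mem (a b : R) : lf a b ∈ CohB1.polyGrading 1 R 1 := by
  rw [lf]
  refine Submodule.sub_mem _ ?_ ?_
  · rw [← MvPolynomial.smul_eq_C_mul]
    exact Submodule.smul_mem _ _ (X_mem 1 R 0)
  · rw [← MvPolynomial.smul_eq_C_mul]
    exact Submodule.smul_mem _ _ (X_mem 1 R 1)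

/-- the homogeneous ideal -/
noncomputable def J : HomogeneousIdeal (CohB1.polyGrading 1 R) where
  carrier := Ideal.span {lf a b, lf c d}
  add_mem' := Ideal.add_mem _
  zero_mem' := Ideal.zero_mem _
  smul_mem' := fun c _ h => Ideal.mul_mem_left _ c h
  is_homogeneous' := by
    apply Ideal.homogeneous_span
    rintro x (rfl | rfl)
    · exact ⟨1, lf_mem a b⟩
    · exact ⟨1, lf_mem c d⟩

theorem J_eq : (J a b c d).toIdeal = Ideal.span {lf a b, lf c d} := rfl

open Polynomial in
/-- the ring of the chart `X₀ ≠ 0` -/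
abbrev T0 : Type u := R[X] ⧸ Ideal.span ({C a - C b * X, C c - C d * X} : Set R[X])

open Polynomial in
/-- the ring of the chart `X₁ ≠ 0` -/
abbrev T1 : Type u := R[X] ⧸ Ideal.span ({C a * X - C b, C c * X - C d} : Set R[X])

/-- `X₀ ↦ 1`, `X₁ ↦ X` -/
noncomputable def ev0 : MvPolynomial (Fin (1 + 1)) R →ₐ[R] Polynomial R :=
  MvPolynomial.aeval ![1, Polynomial.X]

/-- `X₀ ↦ X`, `X₁ ↦ 1` -/
noncomputable def ev1 : MvPolynomial (Fin (1 + 1)) R →ₐ[R] Polynomial R :=
  MvPolynomial.aeval ![Polynomial.X, 1]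

@[simp] theorem ev0_0 : ev0 (R := R) (MvPolynomial.X 0) = 1 := by simp [ev0]
@[simp] theorem ev0_1 : ev0 (R := R) (MvPolynomial.X 1) = Polynomial.X := by simp [ev0]
@[simp] theorem ev1_0 : ev1 (R := R) (MvPolynomial.X 0) = Polynomial.X := by simp [ev1]
@[simp] theorem ev1_1 : ev1 (R := R) (MvPolynomial.X 1) = 1 := by simp [ev1]
@[simp] theorem ev0_C (r : R) : ev0 (R := R) (MvPolynomial.C r) = Polynomial.C r := by
  simp [ev0]
@[simp] theorem ev1_C (r : R) : ev1 (R := R) (MvPolynomial.C r) = Polynomial.C r := by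
  simp [ev1]

/-- `X ↦ X_i` -/
noncomputable def li (i : Fin (1 + 1)) : Polynomial R →ₐ[R] MvPolynomial (Fin (1 + 1)) R :=
  Polynomial.aeval (MvPolynomial.X i)

@[simp] theorem li_X (i : Fin (1 + 1)) : li (R := R) i Polynomial.X = MvPolynomial.X i := by simp [li]
@[simp] theorem li_C (i : Fin (1 + 1)) (r : R) : li (R := R) i (Polynomial.C r) = MvPolynomial.C r := by
  simp [li]

theorem sub_mem0 (p : MvPolynomial (Fin (1 + 1)) R) :
    p - (li 1 : Polynomial R →ₐ[R] _) (ev0 p) ∈ Ideal.span {(MvPolynomial.X 0 : MvPolynomial (Fin (1 + 1)) R) - 1} := by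
  rw [← Ideal.Quotient.eq]
  have h : Ideal.Quotient.mkₐ R (Ideal.span {(MvPolynomial.X 0 : MvPolynomial (Fin (1 + 1)) R) - 1}) =
      (Ideal.Quotient.mkₐ R _).comp ((li 1 : Polynomial R →ₐ[R] _).comp ev0) := by
    apply MvPolynomial.algHom_ext
    intro i
    fin_cases i
    · change Ideal.Quotient.mk _ (MvPolynomial.X 0) = Ideal.Quotient.mk _ (li 1 (ev0 (MvPolynomial.X 0)))
      rw [ev0_0, map_one, Ideal.Quotient.eq]
      exact Ideal.mem_span_singleton_self _
    · change Ideal.Quotient.mk _ (MvPolynomial.X 1) = Ideal.Quotient.mk _ (li 1 (ev0 (MvPolynomial.X 1)))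
      rw [ev0_1, li_X]
  exact congrArg (fun f => f p) (congrArg DFunLike.coe h)

theorem sub_mem1 (p : MvPolynomial (Fin (1 + 1)) R) :
    p - (li 0 : Polynomial R →ₐ[R] _) (ev1 p) ∈ Ideal.span {(MvPolynomial.X 1 : MvPolynomial (Fin (1 + 1)) R) - 1} := by
  rw [← Ideal.Quotient.eq]
  have h : Ideal.Quotient.mkₐ R (Ideal.span {(MvPolynomial.X 1 : MvPolynomial (Fin (1 + 1)) R) - 1}) =
      (Ideal.Quotient.mkₐ R _).comp ((li 0 : Polynomial R →ₐ[R] _).comp ev1) := by
    apply MvPolynomial.algHom_ext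
    intro i
    fin_cases i
    · change Ideal.Quotient.mk _ (MvPolynomial.X 0) = Ideal.Quotient.mk _ (li 0 (ev1 (MvPolynomial.X 0)))
      rw [ev1_0, li_X]
    · change Ideal.Quotient.mk _ (MvPolynomial.X 1) = Ideal.Quotient.mk _ (li 0 (ev1 (MvPolynomial.X 1)))
      rw [ev1_1, map_one, Ideal.Quotient.eq]
      exact Ideal.mem_span_singleton_self _
  exact congrArg (fun f => f p) (congrArg DFunLike.coe h)

/-- the map to the first chart -/
noncomputable def θ0 : MvPolynomial (Fin (1 + 1)) R →+* T0 a b c d :=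
  (Ideal.Quotient.mk _).comp (ev0 : _ →ₐ[R] _).toRingHom

/-- the map to the second chart -/
noncomputable def θ1 : MvPolynomial (Fin (1 + 1)) R →+* T1 a b c d :=
  (Ideal.Quotient.mk _).comp (ev1 : _ →ₐ[R] _).toRingHom

theorem θ0_surj : Function.Surjective (θ0 a b c d) := by
  refine Ideal.Quotient.mk_surjective.comp ?_
  intro p
  refine ⟨li 1 p, ?_⟩
  have h : ((ev0 : _ →ₐ[R] _).comp (li 1 : Polynomial R →ₐ[R] _)) = AlgHom.id R _ := by
    apply Polynomial.algHom_ext
    change ev0 (li 1 Polynomial.X) = Polynomial.X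
    rw [li_X, ev0_1]
  exact congrArg (fun f => f p) (congrArg DFunLike.coe h)

theorem θ1_surj : Function.Surjective (θ1 a b c d) := by
  refine Ideal.Quotient.mk_surjective.comp ?_
  intro p
  refine ⟨li 0 p, ?_⟩
  have h : ((ev1 : _ →ₐ[R] _).comp (li 0 : Polynomial R →ₐ[R] _)) = AlgHom.id R _ := by
    apply Polynomial.algHom_ext
    change ev1 (li 0 Polynomial.X) = Polynomial.X
    rw [li_X, ev1_0]
  exact congrArg (fun f => f p) (congrArg DFunLike.coe h)

theorem ker_θ0 : RingHom.ker (θ0 a b c d) = (J a b c d).toIdeal ⊔ Ideal.span {MvPolynomial.X 0 - 1} := by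
  refine ker_eq (ev0 : _ →ₐ[R] _).toRingHom (li 1 : Polynomial R →ₐ[R] _).toRingHom _ sub_mem0 ev0_0 _ _ ?_ ?_
  · rw [J_eq, Ideal.map_span, Ideal.span_le]
    rintro _ ⟨_, (rfl | rfl), rfl⟩
    · refine Ideal.subset_span (Or.inl ?_)
      change ev0 (lf a b) = _
      rw [lf, map_sub, map_mul, map_mul, ev0_0, ev0_1, ev0_C, ev0_C, mul_one]
    · refine Ideal.subset_span (Or.inr ?_)
      change ev0 (lf c d) = _
      rw [lf, map_sub, map_mul, map_mul, ev0_0, ev0_1, ev0_C, ev0_C, mul_one]
  · rw [J_eq, Ideal.map_span, Ideal.span_le]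
    have key : ∀ e f : R, lf e f ∈ Ideal.span {lf a b, lf c d} →
        (li 1 : Polynomial R →ₐ[R] _) (Polynomial.C e - Polynomial.C f * Polynomial.X) ∈
          Ideal.span {lf a b, lf c d} ⊔ Ideal.span {(MvPolynomial.X 0 : MvPolynomial (Fin (1 + 1)) R) - 1} := by
      intro e f h
      have h1 : (li 1 : Polynomial R →ₐ[R] _) (Polynomial.C e - Polynomial.C f * Polynomial.X) =
          lf e f - MvPolynomial.C e * (MvPolynomial.X 0 - 1) := by
        rw [map_sub, map_mul, li_X, li_C, li_C, lf]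
        ring
      rw [h1]
      exact Ideal.sub_mem _ (Ideal.mem_sup_left h)
        (Ideal.mem_sup_right (Ideal.mul_mem_left _ _ (Ideal.mem_span_singleton_self _)))
    rintro _ ⟨_, (rfl | rfl), rfl⟩
    · exact key a b (Ideal.subset_span (Or.inl rfl))
    · exact key c d (Ideal.subset_span (Or.inr rfl))

theorem ker_θ1 : RingHom.ker (θ1 a b c d) = (J a b c d).toIdeal ⊔ Ideal.span {MvPolynomial.X 1 - 1} := by
  refine ker_eq (ev1 : _ →ₐ[R] _).toRingHom (li 0 : Polynomial R →ₐ[R] _).toRingHom _ sub_mem1 ev1_1 _ _ ?_ ?_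
  · rw [J_eq, Ideal.map_span, Ideal.span_le]
    rintro _ ⟨_, (rfl | rfl), rfl⟩
    · refine Ideal.subset_span (Or.inl ?_)
      change ev1 (lf a b) = _
      rw [lf, map_sub, map_mul, map_mul, ev1_0, ev1_1, ev1_C, ev1_C, mul_one]
    · refine Ideal.subset_span (Or.inr ?_)
      change ev1 (lf c d) = _
      rw [lf, map_sub, map_mul, map_mul, ev1_0, ev1_1, ev1_C, ev1_C, mul_one]
  · rw [J_eq, Ideal.map_span, Ideal.span_le]
    have key : ∀ e f : R, lf e f ∈ Ideal.span {lf a b, lf c d} →
        (li 0 : Polynomial R →ₐ[R] _) (Polynomial.C e * Polynomial.X - Polynomial.C f) ∈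
          Ideal.span {lf a b, lf c d} ⊔ Ideal.span {(MvPolynomial.X 1 : MvPolynomial (Fin (1 + 1)) R) - 1} := by
      intro e f h
      have h1 : (li 0 : Polynomial R →ₐ[R] _) (Polynomial.C e * Polynomial.X - Polynomial.C f) =
          lf e f + MvPolynomial.C f * (MvPolynomial.X 1 - 1) := by
        rw [map_sub, map_mul, li_X, li_C, li_C, lf]
        ring
      rw [h1]
      exact Ideal.add_mem _ (Ideal.mem_sup_left h)
        (Ideal.mem_sup_right (Ideal.mul_mem_left _ _ (Ideal.mem_span_singleton_self _)))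
    rintro _ ⟨_, (rfl | rfl), rfl⟩
    · exact key a b (Ideal.subset_span (Or.inl rfl))
    · exact key c d (Ideal.subset_span (Or.inr rfl))

/-- the modification -/
noncomputable def M : Scheme.{u} := P (J a b c d)

/-- its structure morphism -/
noncomputable def π : M a b c d ⟶ Spec (CommRingCat.of R) := emb (J a b c d) ≫ str (CohB1.polyGrading 1 R)

/-- first chart -/
noncomputable def i0 : Spec (CommRingCat.of (T0 a b c d)) ⟶ M a b c d :=
  cell (J a b c d) (MvPolynomial.X 0) (X_mem 1 R 0) (θ0 a b c d) (θ0_surj a b c d) (ker_θ0 a b c d)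

/-- second chart -/
noncomputable def i1 : Spec (CommRingCat.of (T1 a b c d)) ⟶ M a b c d :=
  cell (J a b c d) (MvPolynomial.X 1) (X_mem 1 R 1) (θ1 a b c d) (θ1_surj a b c d) (ker_θ1 a b c d)

instance : IsOpenImmersion (i0 a b c d) := isOpenImmersion_cell _ _ _ _ _ _

instance : IsOpenImmersion (i1 a b c d) := isOpenImmersion_cell _ _ _ _ _ _

instance isProper_π : IsProper (π a b c d) := by
  have h : IsProper (str (CohB1.polyGrading 1 R)) := Groth.Agent.Ega3B.ProjProper.isProper_toSpec 1 R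
  have h1 : IsClosedImmersion (emb (J a b c d)) := isClosedImmersion_emb _
  have h2 : IsProper (emb (J a b c d)) := inferInstance
  exact MorphismProperty.comp_mem @IsProper _ _ h2 h

@[reassoc]
theorem i0_π : i0 a b c d ≫ π a b c d = Spec.map (CommRingCat.ofHom (algebraMap R (T0 a b c d))) := by
  refine cell_str (J a b c d) (MvPolynomial.X 0) (X_mem 1 R 0) (θ0 a b c d) (θ0_surj a b c d)
    (ker_θ0 a b c d) (fun r => ?_)
  change Ideal.Quotient.mk _ (ev0 (MvPolynomial.C r)) = _
  rw [ev0_C]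
  rfl

@[reassoc]
theorem i1_π : i1 a b c d ≫ π a b c d = Spec.map (CommRingCat.ofHom (algebraMap R (T1 a b c d))) := by
  refine cell_str (J a b c d) (MvPolynomial.X 1) (X_mem 1 R 1) (θ1 a b c d) (θ1_surj a b c d)
    (ker_θ1 a b c d) (fun r => ?_)
  change Ideal.Quotient.mk _ (ev1 (MvPolynomial.C r)) = _
  rw [ev1_C]
  rfl

theorem cover (x : M a b c d) : x ∈ Set.range (i0 a b c d) ∨ x ∈ Set.range (i1 a b c d) := by
  obtain ⟨i, hi⟩ := exists_mem_chart 1 R (emb (J a b c d) x)
  rw [opensRange_chart] at hi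
  have h : x ∈ Proj.basicOpen (gr (J a b c d)) (prG (J a b c d) (MvPolynomial.X i)) := hi
  fin_cases i
  · left
    have h2 := opensRange_cell (J a b c d) (MvPolynomial.X 0) (X_mem 1 R 0) (θ0 a b c d) (θ0_surj a b c d)
      (ker_θ0 a b c d)
    have h3 : x ∈ (cell (J a b c d) (MvPolynomial.X 0) (X_mem 1 R 0) (θ0 a b c d) (θ0_surj a b c d)
      (ker_θ0 a b c d)).opensRange := by rw [h2]; exact h
    exact h3
  · right
    have h2 := opensRange_cell (J a b c d) (MvPolynomial.X 1) (X_mem 1 R 1) (θ1 a b c d) (θ1_surj a b c d)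
      (ker_θ1 a b c d)
    have h3 : x ∈ (cell (J a b c d) (MvPolynomial.X 1) (X_mem 1 R 1) (θ1 a b c d) (θ1_surj a b c d)
      (ker_θ1 a b c d)).opensRange := by rw [h2]; exact h
    exact h3

theorem surjective (h : a * d = b * c) (x : Spec (CommRingCat.of R)) : ∃ y, π a b c d y = x := by
  let p : PrimeSpectrum R := x
  let κ := p.asIdeal.ResidueField
  have hk : ∀ r : R, algebraMap R κ r = 0 ↔ r ∈ p.asIdeal := fun r => Ideal.algebraMap_residueField_eq_zero
  -- points from homomorphisms to the residue field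
  have key : ∀ (T : Type u) [CommRing T] [Algebra R T] (f : T →ₐ[R] κ),
      ∃ y : PrimeSpectrum T, y.comap (algebraMap R T) = p := by
    intro T _ _ f
    refine ⟨⟨RingHom.ker f.toRingHom, RingHom.ker_isPrime _⟩, ?_⟩
    apply PrimeSpectrum.ext
    ext r
    change f (algebraMap R T r) = 0 ↔ r ∈ p.asIdeal
    rw [f.commutes, hk]
  have h' : algebraMap R κ a * algebraMap R κ d = algebraMap R κ b * algebraMap R κ c := by
    rw [← map_mul, ← map_mul, h]
  have hT0 : (∃ t : κ, algebraMap R κ a = algebraMap R κ b * t ∧ algebraMap R κ c = algebraMap R κ d * t) →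
      ∃ y, π a b c d y = x := by
    rintro ⟨t, h1, h2⟩
    have hf : ∀ q ∈ Ideal.span ({Polynomial.C a - Polynomial.C b * Polynomial.X,
        Polynomial.C c - Polynomial.C d * Polynomial.X} : Set (Polynomial R)),
        (Polynomial.aeval t : Polynomial R →ₐ[R] κ) q = 0 := by
      intro q hq
      have h3 : Ideal.span ({Polynomial.C a - Polynomial.C b * Polynomial.X,
        Polynomial.C c - Polynomial.C d * Polynomial.X} : Set (Polynomial R)) ≤
          RingHom.ker (Polynomial.aeval t : Polynomial R →ₐ[R] κ).toRingHom := by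
        rw [Ideal.span_le]
        rintro _ (rfl | rfl)
        · change (Polynomial.aeval t : Polynomial R →ₐ[R] κ) _ = 0
          simp [h1]
        · change (Polynomial.aeval t : Polynomial R →ₐ[R] κ) _ = 0
          simp [h2]
      exact h3 hq
    obtain ⟨y, hy⟩ := key (T0 a b c d) (Ideal.Quotient.liftₐ _ (Polynomial.aeval t) hf)
    refine ⟨i0 a b c d y, ?_⟩
    rw [← Scheme.Hom.comp_apply, i0_π]
    exact hy
  have hT1 : (∃ t : κ, algebraMap R κ a * t = algebraMap R κ b ∧ algebraMap R κ c * t = algebraMap R κ d) →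
      ∃ y, π a b c d y = x := by
    rintro ⟨t, h1, h2⟩
    have hf : ∀ q ∈ Ideal.span ({Polynomial.C a * Polynomial.X - Polynomial.C b,
        Polynomial.C c * Polynomial.X - Polynomial.C d} : Set (Polynomial R)),
        (Polynomial.aeval t : Polynomial R →ₐ[R] κ) q = 0 := by
      intro q hq
      have h3 : Ideal.span ({Polynomial.C a * Polynomial.X - Polynomial.C b,
        Polynomial.C c * Polynomial.X - Polynomial.C d} : Set (Polynomial R)) ≤
          RingHom.ker (Polynomial.aeval t : Polynomial R →ₐ[R] κ).toRingHom := by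
        rw [Ideal.span_le]
        rintro _ (rfl | rfl)
        · change (Polynomial.aeval t : Polynomial R →ₐ[R] κ) _ = 0
          simp [h1]
        · change (Polynomial.aeval t : Polynomial R →ₐ[R] κ) _ = 0
          simp [h2]
      exact h3 hq
    obtain ⟨y, hy⟩ := key (T1 a b c d) (Ideal.Quotient.liftₐ _ (Polynomial.aeval t) hf)
    refine ⟨i1 a b c d y, ?_⟩
    rw [← Scheme.Hom.comp_apply, i1_π]
    exact hy
  by_cases hb : algebraMap R κ b = 0
  · by_cases hd : algebraMap R κ d = 0
    · exact hT1 ⟨0, by rw [hb, mul_zero], by rw [hd, mul_zero]⟩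
    · refine hT0 ⟨algebraMap R κ c / algebraMap R κ d, ?_, ?_⟩
      · rw [hb, zero_mul]
        rw [hb, zero_mul] at h'
        exact (mul_eq_zero.1 h').resolve_right hd
      · rw [mul_div_cancel₀ _ hd]
  · refine hT0 ⟨algebraMap R κ a / algebraMap R κ b, ?_, ?_⟩
    · rw [mul_div_cancel₀ _ hb]
    · rw [mul_div_assoc', eq_div_iff hb, mul_comm, ← h', mul_comm]

end

/-- **The `P^1`-modification.** -/
theorem exists_modification {R : Type u} [CommRing R] (a b c d : R) (h : a * d = b * c) :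
    ∃ (X' : Scheme.{u}) (p : X' ⟶ Spec (CommRingCat.of R))
      (i0 : Spec (CommRingCat.of (T0 a b c d)) ⟶ X') (i1 : Spec (CommRingCat.of (T1 a b c d)) ⟶ X'),
      IsProper p ∧ (∀ x, ∃ y, p y = x) ∧ IsOpenImmersion i0 ∧ IsOpenImmersion i1 ∧
      (∀ x, x ∈ Set.range i0 ∨ x ∈ Set.range i1) ∧
      i0 ≫ p = Spec.map (CommRingCat.ofHom (algebraMap R (T0 a b c d))) ∧
      i1 ≫ p = Spec.map (CommRingCat.ofHom (algebraMap R (T1 a b c d))) :=
  ⟨M a b c d, π a b c d, i0 a b c d, i1 a b c d, inferInstance, surjective a b c d h, inferInstance,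
    inferInstance, cover a b c d, i0_π a b c d, i1_π a b c d⟩

open K556.CertDef in
/-- The `P^1`-modification and certificates. -/
theorem cert {R : Type u} [CommRing R] (a b c d : R) (h : a * d = b * c)
    (V : (Spec (CommRingCat.of R)).Opens)
    (h0 : Cert (Spec (CommRingCat.of (T0 a b c d)))
      (Spec.map (CommRingCat.ofHom (algebraMap R (T0 a b c d))) ⁻¹ᵁ V))
    (h1 : Cert (Spec (CommRingCat.of (T1 a b c d)))
      (Spec.map (CommRingCat.ofHom (algebraMap R (T1 a b c d))) ⁻¹ᵁ V)) :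
    Cert (Spec (CommRingCat.of R)) V := by
  have hM : Cert (M a b c d) (π a b c d ⁻¹ᵁ V) := by
    let Y : Fin 2 → Scheme.{u} := Fin.cases (Spec (CommRingCat.of (T0 a b c d)))
      (fun _ => Spec (CommRingCat.of (T1 a b c d)))
    let f : ∀ j : Fin 2, Y j ⟶ M a b c d := Fin.cases (i0 a b c d) (fun _ => i1 a b c d)
    have hf : ∀ j, IsOpenImmersion (f j) := by
      refine Fin.cases ?_ ?_
      · exact (inferInstance : IsOpenImmersion (i0 a b c d))
      · intro _
        exact (inferInstance : IsOpenImmersion (i1 a b c d))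
    have hpr := isProper_π a b c d
    refine Cert.etale _ Y f (fun j => ?_) (fun j => ?_) (fun x => ?_) ?_
    · have := hf j
      infer_instance
    · have hp : IsSeparated (π a b c d) := inferInstance
      refine Fin.cases ?_ (fun k => ?_) j
      · change QuasiCompact (i0 a b c d)
        have h2 : QuasiCompact (i0 a b c d ≫ π a b c d) := by
          rw [i0_π]
          infer_instance
        exact QuasiCompact.of_comp _ (π a b c d)
      · change QuasiCompact (i1 a b c d)
        have h2 : QuasiCompact (i1 a b c d ≫ π a b c d) := by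
          rw [i1_π]
          infer_instance
        exact QuasiCompact.of_comp _ (π a b c d)
    · rcases cover a b c d x with hx | hx
      · exact ⟨0, hx⟩
      · exact ⟨1, hx⟩
    · refine Fin.cases ?_ (fun k => ?_)
      · change Cert _ (i0 a b c d ⁻¹ᵁ (π a b c d ⁻¹ᵁ V))
        rw [← Scheme.Hom.comp_preimage, i0_π]
        exact h0
      · change Cert _ (i1 a b c d ⁻¹ᵁ (π a b c d ⁻¹ᵁ V))
        rw [← Scheme.Hom.comp_preimage, i1_π]
        exact h1
  refine Cert.proper V (fun _ : Fin 1 => M a b c d) (fun _ => π a b c d) (fun _ => inferInstance)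
    (fun x _ => ⟨0, surjective a b c d h x⟩) (fun _ => hM)

end K852.PMod
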