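import Groth.Agent.EtDl.K556.CertDef
import Groth.Agent.EGA41.K103.RegPar
import Mathlib.RingTheory.KrullDimension.Regular

/-!
# Strict normal crossings families are parts of regular systems of parameters
-/

set_option autoImplicit false
universe u

namespace K852.AbhB

open IsLocalRing K556.CertDef

variable {R : Type u} [CommRing R] {ι : Type} {z : ι → R}

theorem isRegularRing (h : SNC R z) : IsRegularRing R := by
  have h1 := h.reg ∅
  have h2 : Ideal.span (z '' ∅) = ⊥ := by simp
  exact IsRegularRing.of_ringEquiv ((Ideal.quotEquivOfEq h2).trans (RingEquiv.quotientBot R))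

variable (p : Ideal R) [p.IsPrime]

/-- the quotients of the localization -/
theorem isRegularLocalRing_quotient (h : SNC R z) (J : Set ι) (hJ : ∀ i ∈ J, z i ∈ p) :
    IsRegularLocalRing (Localization.AtPrime p ⧸
      (Ideal.span (z '' J)).map (algebraMap R (Localization.AtPrime p))) := by
  have h1 := h.reg J
  have hle : Ideal.span (z '' J) ≤ p := by
    rw [Ideal.span_le]
    rintro _ ⟨i, hi, rfl⟩
    exact hJ i hi
  set I : Ideal R := Ideal.span (z '' J) with hI
  let P : Ideal (R ⧸ I) := p.map (Ideal.Quotient.mk I)
  have hP : P.IsPrime := by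
    refine Ideal.map_isPrime_of_surjective Ideal.Quotient.mk_surjective ?_
    rw [Ideal.mk_ker]
    exact hle
  have hcomp : P.primeCompl = Algebra.algebraMapSubmonoid (R ⧸ I) p.primeCompl := by
    ext x
    constructor
    · intro hx
      obtain ⟨y, rfl⟩ := Ideal.Quotient.mk_surjective x
      exact ⟨y, fun hy => hx (Ideal.mem_map_of_mem _ hy), rfl⟩
    · rintro ⟨y, hy, rfl⟩ hx
      apply hy
      obtain ⟨w, hw, hwy⟩ := (Ideal.mem_map_iff_of_surjective _ Ideal.Quotient.mk_surjective).1 hx
      have h2 : w - y ∈ I := Ideal.Quotient.eq.1 hwy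
      have h3 : y = w - (w - y) := by ring
      rw [h3]
      exact p.sub_mem hw (hle h2)
  have hloc : IsLocalization.AtPrime (Localization.AtPrime p ⧸ I.map (algebraMap R (Localization.AtPrime p))) P := by
    change IsLocalization P.primeCompl _
    rw [hcomp]
    infer_instance
  have h4 := h1.isRegularLocalRing_localization P
  exact IsRegularLocalRing.of_ringEquiv
    (IsLocalization.algEquiv P.primeCompl (Localization.AtPrime P)
      (Localization.AtPrime p ⧸ I.map (algebraMap R (Localization.AtPrime p)))).toRingEquiv

/-- injectivity in the localization -/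
theorem mem_of_mul_mem (h : SNC R z) (J : Set ι) (i : ι) (hi : i ∉ J) (y : Localization.AtPrime p)
    (hy : algebraMap R (Localization.AtPrime p) (z i) * y ∈
      (Ideal.span (z '' J)).map (algebraMap R (Localization.AtPrime p))) :
    y ∈ (Ideal.span (z '' J)).map (algebraMap R (Localization.AtPrime p)) := by
  obtain ⟨a, s, rfl⟩ := IsLocalization.exists_mk'_eq p.primeCompl y
  have h1 : algebraMap R (Localization.AtPrime p) (z i) * IsLocalization.mk' _ a s =
      IsLocalization.mk' _ (z i * a) s := IsLocalization.mul_mk'_eq_mk'_of_mul _ _ _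
  rw [h1, IsLocalization.mk'_mem_map_algebraMap_iff p.primeCompl] at hy
  rw [IsLocalization.mk'_mem_map_algebraMap_iff p.primeCompl]
  obtain ⟨t, ht, hty⟩ := hy
  refine ⟨t, ht, h.inj J i hi _ ?_⟩
  have h2 : z i * (t * a) = t * (z i * a) := by ring
  rw [h2]
  exact hty

theorem linearIndependent (h : SNC R z) {r : ℕ} (e : Fin r → ι) (he : Function.Injective e)
    (hm : ∀ i, algebraMap R (Localization.AtPrime p) (z (e i)) ∈ maximalIdeal (Localization.AtPrime p)) :
    LinearIndependent (ResidueField (Localization.AtPrime p))
      (fun i => (maximalIdeal (Localization.AtPrime p)).toCotangent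
        ⟨algebraMap R (Localization.AtPrime p) (z (e i)), hm i⟩) := by
  have hreg := isRegularRing h
  have hA : IsRegularLocalRing (Localization.AtPrime p) := inferInstance
  have hmem : ∀ i, z (e i) ∈ p := fun i =>
    (IsLocalization.AtPrime.to_map_mem_maximal_iff (Localization.AtPrime p) p _).1 (hm i)
  set f : Fin r → Localization.AtPrime p := fun i => algebraMap R (Localization.AtPrime p) (z (e i)) with hf
  let x : Fin r → maximalIdeal (Localization.AtPrime p) := fun i => ⟨f i, hm i⟩
  have hspan : Ideal.span (Set.range fun i => (x i : Localization.AtPrime p)) =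
      (Ideal.span (z '' (Set.range e))).map (algebraMap R (Localization.AtPrime p)) := by
    rw [Ideal.map_span, ← Set.range_comp, ← Set.range_comp]
    rfl
  refine ((K103.RegPar.main r x).2 ⟨?_, ?_⟩).2
  · -- dimension
    let rs : List (Localization.AtPrime p) := List.ofFn f
    have hlen : rs.length = r := List.length_ofFn
    have hof : Ideal.ofList rs = Ideal.span (Set.range fun i => (x i : Localization.AtPrime p)) := by
      rw [Ideal.ofList]
      congr 1
      ext y
      simp only [rs, Set.mem_ofPred_eq, List.mem_ofFn, Set.mem_range]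
      rfl
    have hwr : RingTheory.Sequence.IsWeaklyRegular (Localization.AtPrime p) rs := by
      constructor
      intro i hi
      have hi' : i < r := hlen ▸ hi
      have h3 : (Ideal.ofList (rs.take i) • ⊤ : Submodule (Localization.AtPrime p) (Localization.AtPrime p)) =
          (Ideal.span (z '' (e '' {j | (j : ℕ) < i}))).map (algebraMap R (Localization.AtPrime p)) := by
        rw [smul_eq_mul, Ideal.mul_top, Ideal.map_span, Ideal.ofList]
        congr 1
        ext y
        simp only [Set.mem_ofPred_eq, Set.mem_image, exists_exists_and_eq_and]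
        rw [List.mem_take_iff_getElem]
        constructor
        · rintro ⟨j, hj, rfl⟩
          have hj' : j < r := by
            have := lt_min_iff.1 hj
            rw [hlen] at this
            exact this.2
          refine ⟨⟨j, hj'⟩, (lt_min_iff.1 hj).1, ?_⟩
          simp [rs, f]
        · rintro ⟨j, hj, rfl⟩
          refine ⟨j, lt_min hj (by rw [hlen]; exact j.2), ?_⟩
          simp [rs, f]
      have h4 : rs[i] = algebraMap R (Localization.AtPrime p) (z (e ⟨i, hi'⟩)) := by
        simp [rs, f]
      rw [h4]
      refine isSMulRegular_iff_right_eq_zero_of_smul.2 ?_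
      intro y hy
      obtain ⟨y, rfl⟩ := Submodule.Quotient.mk_surjective _ y
      rw [← Submodule.Quotient.mk_smul, Submodule.Quotient.mk_eq_zero, h3] at hy
      rw [Submodule.Quotient.mk_eq_zero, h3]
      refine mem_of_mul_mem p h _ (e ⟨i, hi'⟩) ?_ y hy
      rintro ⟨j, hj, hje⟩
      have := he hje
      rw [this] at hj
      exact lt_irrefl i hj
    have hr : RingTheory.Sequence.IsRegular (Localization.AtPrime p) rs := by
      refine (IsLocalRing.isRegular_iff_isWeaklyRegular_of_subset_maximalIdeal ?_).2 hwr
      intro y hy
      simp only [rs, List.mem_ofFn] at hy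
      obtain ⟨i, rfl⟩ := hy
      exact hm i
    have h5 := ringKrullDim_add_length_eq_ringKrullDim_of_isRegular rs hr
    rw [hlen] at h5
    rw [← hof]
    exact h5
  · rw [hspan]
    exact isRegularLocalRing_quotient p h _ (by rintro _ ⟨i, rfl⟩; exact hmem i)

end K852.AbhB
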