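import Groth.Agent.Grpsch.HullPoints
import Mathlib.RingTheory.Etale.Basic
import Mathlib.RingTheory.Unramified.Finite
import Mathlib.RingTheory.Localization.BaseChange

/-!
# Descending a homomorphism with torsion kernel from an ind-étale local algebra to an étale algebra
-/

set_option autoImplicit false
universe u

namespace K852.AbhC

open TensorProduct

section

variable {R E D H : Type u} [CommRing R] [CommRing E] [CommRing D] [CommRing H] [Algebra R E]
  [Algebra R D] [Algebra R H]

/-- the extension of scalars of `τ : E → H ⊗ D` -/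
noncomputable def Psi (τ : E →ₐ[R] H ⊗[R] D) : H ⊗[R] E →ₐ[H] H ⊗[R] D :=
  Algebra.TensorProduct.lift (Algebra.ofId H (H ⊗[R] D)) τ (fun _ _ => Commute.all _ _)

theorem Psi_tmul (τ : E →ₐ[R] H ⊗[R] D) (h : H) (x : E) : Psi τ (h ⊗ₜ x) = (h ⊗ₜ 1) * τ x := by
  rw [Psi, Algebra.TensorProduct.lift_tmul]
  rfl

end

/-- In a flat base change to a local ring, an element killed by the base change is killed by an element
which becomes a unit. -/
theorem exists_unit {B H : Type u} [CommRing B] [CommRing H] [Algebra B H] [Module.Flat B H] [IsLocalRing H]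
    {M : Type u} [AddCommGroup M] [Module B M] (y : M) (hy : (1 : H) ⊗ₜ[B] y = 0) :
    ∃ g : B, g • y = 0 ∧ IsUnit (algebraMap B H g) := by
  let I : Ideal B := LinearMap.ker (LinearMap.toSpanSingleton B M y)
  let f : (B ⧸ I) →ₗ[B] M := Submodule.liftQ I (LinearMap.toSpanSingleton B M y) le_rfl
  have hf : Function.Injective f := by
    rw [← LinearMap.ker_eq_bot]
    exact Submodule.ker_liftQ_eq_bot _ _ _ le_rfl
  have hf' := Module.Flat.lTensor_preserves_injective_linearMap (M := H) f hf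
  have h1 : (1 : H) ⊗ₜ[B] (Submodule.Quotient.mk (p := I) (1 : B)) = 0 := by
    apply hf'
    rw [map_zero, LinearMap.lTensor_tmul]
    have h2 : f (Submodule.Quotient.mk (p := I) (1 : B)) = y := by
      change LinearMap.toSpanSingleton B M y 1 = y
      simp
    rw [h2, hy]
  by_contra hcon
  push Not at hcon
  have hle : I.map (algebraMap B H) ≤ IsLocalRing.maximalIdeal H := by
    rw [Ideal.map_le_iff_le_comap]
    intro g hg
    exact (IsLocalRing.mem_maximalIdeal _).2 (hcon g (by simpa [I] using hg))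
  have h3 := congrArg (TensorProduct.tensorQuotEquivQuotSMul H I) h1
  rw [map_zero] at h3
  have h4 : TensorProduct.tensorQuotEquivQuotSMul H I ((1 : H) ⊗ₜ[B] (Submodule.Quotient.mk (p := I) (1 : B))) =
      Submodule.Quotient.mk (1 : H) := by
    exact (TensorProduct.tensorQuotEquivQuotSMul_tmul_mk I (1 : H) (1 : B)).trans (by rw [one_smul])
  rw [h4, Submodule.Quotient.mk_eq_zero] at h3
  have h5 : (1 : H) ∈ I.map (algebraMap B H) := by
    rw [Ideal.smul_top_eq_map] at h3
    exact h3
  exact (Ideal.ne_top_iff_one _).1 (IsLocalRing.maximalIdeal.isMaximal H).ne_top (hle h5)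

/-- uniform version -/
theorem exists_unif {B H : Type u} [CommRing B] [CommRing H] [Algebra B H] [Module.Flat B H] [IsLocalRing H]
    {M : Type u} [AddCommGroup M] [Module B M] (F : B) (N : Submodule B M) (hN : N.FG)
    (h : ∀ y ∈ N, ∃ k : ℕ, (1 : H) ⊗ₜ[B] (F ^ k • y) = 0) :
    ∃ (g : B) (k : ℕ), IsUnit (algebraMap B H g) ∧ ∀ y ∈ N, (g * F ^ k) • y = 0 := by
  revert h
  induction N, hN using Submodule.fg_induction with
  | singleton x =>
    intro h
    obtain ⟨k, hk⟩ := h x (Submodule.mem_span_singleton_self x)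
    obtain ⟨g, hg, hu⟩ := exists_unit (F ^ k • x) hk
    refine ⟨g, k, hu, fun y hy => ?_⟩
    obtain ⟨a, rfl⟩ := Submodule.mem_span_singleton.1 hy
    rw [smul_smul, mul_comm, ← smul_smul, ← smul_smul, hg, smul_zero]
  | sup N₁ N₂ _ _ h1 h2 =>
    intro h
    obtain ⟨g₁, k₁, hu₁, hk₁⟩ := h1 (fun y hy => h y (Submodule.mem_sup_left hy))
    obtain ⟨g₂, k₂, hu₂, hk₂⟩ := h2 (fun y hy => h y (Submodule.mem_sup_right hy))
    refine ⟨g₁ * g₂, k₁ + k₂, by rw [map_mul]; exact hu₁.mul hu₂, fun y hy => ?_⟩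
    obtain ⟨y₁, hy₁, y₂, hy₂, rfl⟩ := Submodule.mem_sup.1 hy
    rw [smul_add]
    have e1 : g₁ * g₂ * F ^ (k₁ + k₂) = (g₂ * F ^ k₂) * (g₁ * F ^ k₁) := by ring
    have e2 : g₁ * g₂ * F ^ (k₁ + k₂) = (g₁ * F ^ k₁) * (g₂ * F ^ k₂) := by ring
    have z1 : (g₁ * g₂ * F ^ (k₁ + k₂)) • y₁ = 0 := by rw [e1, ← smul_smul, hk₁ y₁ hy₁, smul_zero]
    have z2 : (g₁ * g₂ * F ^ (k₁ + k₂)) • y₂ = 0 := by rw [e2, ← smul_smul, hk₂ y₂ hy₂, smul_zero]
    rw [z1, z2, add_zero]

section

variable {R E D H : Type u} [CommRing R] [CommRing E] [CommRing D] [CommRing H] [Algebra R E]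
  [Algebra R D] [Algebra R H]

/-- naturality of `Psi` -/
theorem map_Psi {R₁ : Type u} [CommRing R₁] [Algebra R R₁] (χ : R₁ →ₐ[R] H) (τ₁ : E →ₐ[R] R₁ ⊗[R] D)
    (τ : E →ₐ[R] H ⊗[R] D) (h : (Algebra.TensorProduct.map χ (AlgHom.id R D)).comp τ₁ = τ)
    (y : R₁ ⊗[R] E) : Algebra.TensorProduct.map χ (AlgHom.id R D) (Psi τ₁ y) =
      Psi τ (Algebra.TensorProduct.map χ (AlgHom.id R E) y) := by
  induction y using TensorProduct.induction_on with
  | zero => simp
  | add x y hx hy => simp only [map_add, hx, hy]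
  | tmul a x =>
    rw [Psi_tmul, map_mul, Algebra.TensorProduct.map_tmul, Algebra.TensorProduct.map_tmul, Psi_tmul, ← h]
    rfl

/-- **Stage.** -/
theorem stage [IsNoetherianRing R] [IsLocalRing H] [Module.Flat R H]
    (hH : Groth.Agent.CalgC.IndEtale.IsIndEtale R H) [Module.Finite R E] (F : R)
    (τ : E →ₐ[R] H ⊗[R] D) (hτ : ∀ x : H ⊗[R] E, Psi τ x = 0 → ∃ N : ℕ, F ^ N • x = 0) :
    ∃ (R' : Type u) (_ : CommRing R') (_ : Algebra R R') (_ : Algebra.Etale R R') (χ : R' →ₐ[R] H)
      (τ' : E →ₐ[R] R' ⊗[R] D), (Algebra.TensorProduct.map χ (AlgHom.id R D)).comp τ' = τ ∧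
      ∀ x : R' ⊗[R] E, Psi τ' x = 0 → ∃ N : ℕ, F ^ N • x = 0 := by
  have hfp : Algebra.FinitePresentation R E := Algebra.FinitePresentation.of_finiteType.mp inferInstance
  let τ'' : D ⊗[R] E →ₐ[D] D ⊗[R] H := Algebra.TensorProduct.lift (Algebra.ofId D (D ⊗[R] H))
    ((Algebra.TensorProduct.comm R H D).toAlgHom.comp τ) (fun _ _ => Commute.all _ _)
  obtain ⟨R₁, _, _, hR₁, χ₁, τE, hτE⟩ := Groth.Agent.Grpsch.HullPoints.exists_algHom_stage hH τ''
  let τ₁ : E →ₐ[R] R₁ ⊗[R] D := (Algebra.TensorProduct.comm R D R₁).toAlgHom.comp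
    ((τE.restrictScalars R).comp Algebra.TensorProduct.includeRight)
  have hτ₁ : (Algebra.TensorProduct.map χ₁ (AlgHom.id R D)).comp τ₁ = τ := by
    apply AlgHom.ext
    intro x
    have h1 : Algebra.TensorProduct.map (AlgHom.id D D) χ₁ (τE (1 ⊗ₜ x)) =
        Algebra.TensorProduct.comm R H D (τ x) := by
      have h2 : (Algebra.TensorProduct.map (AlgHom.id D D) χ₁).comp τE (1 ⊗ₜ x) = τ'' (1 ⊗ₜ x) := by rw [hτE]
      refine h2.trans ?_
      change (Algebra.TensorProduct.lift _ _ _) _ = _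
      rw [Algebra.TensorProduct.lift_tmul, map_one, one_mul]
      rfl
    have h3 : ∀ w : D ⊗[R] R₁, Algebra.TensorProduct.map χ₁ (AlgHom.id R D) (Algebra.TensorProduct.comm R D R₁ w) =
        (Algebra.TensorProduct.comm R H D).symm (Algebra.TensorProduct.map (AlgHom.id D D) χ₁ w) := by
      intro w
      induction w using TensorProduct.induction_on with
      | zero => simp
      | add x y hx hy => simp only [map_add, hx, hy]
      | tmul a b => simp
    change Algebra.TensorProduct.map χ₁ (AlgHom.id R D) (Algebra.TensorProduct.comm R D R₁ (τE (1 ⊗ₜ x))) = _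
    rw [h3, h1, AlgEquiv.symm_apply_apply]
  let _ : Algebra R₁ H := χ₁.toRingHom.toAlgebra
  have htow : IsScalarTower R R₁ H := IsScalarTower.of_algebraMap_eq fun r => (χ₁.commutes r).symm
  have hflat : Module.Flat R₁ H := Algebra.FormallyUnramified.flat_of_restrictScalars R R₁ H
  have hnoeth : IsNoetherianRing R₁ := Algebra.FiniteType.isNoetherianRing R R₁
  have hpull : ∀ y : R₁ ⊗[R] E, Algebra.TensorProduct.map χ₁ (AlgHom.id R E) y = 0 → (1 : H) ⊗ₜ[R₁] y = 0 := by
    intro y hy
    apply (TensorProduct.AlgebraTensorModule.cancelBaseChange R R₁ H H E).injective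
    rw [map_zero, ← hy]
    clear hy
    induction y using TensorProduct.induction_on with
    | zero => simp
    | add x y hx hy => rw [TensorProduct.tmul_add, map_add, hx, hy, map_add]
    | tmul a x =>
      rw [TensorProduct.AlgebraTensorModule.cancelBaseChange_tmul, Algebra.TensorProduct.map_tmul,
        Algebra.smul_def, mul_one]
      rfl
  let N₁ : Submodule R₁ (R₁ ⊗[R] E) := LinearMap.ker (Psi τ₁).toLinearMap
  obtain ⟨g, k, hg, hgk⟩ := exists_unif (H := H) (algebraMap R R₁ F) N₁ (IsNoetherian.noetherian N₁) (by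
    intro y hy
    have h1 : Psi τ₁ y = 0 := hy
    obtain ⟨N, hN⟩ := hτ (Algebra.TensorProduct.map χ₁ (AlgHom.id R E) y) (by
      rw [← map_Psi χ₁ τ₁ τ hτ₁, h1, map_zero])
    refine ⟨N, hpull _ ?_⟩
    rw [← map_pow, algebraMap_smul, map_smul]
    exact hN)
  let R' := Localization.Away g
  have hetR' : Algebra.Etale R₁ R' := Algebra.Etale.of_isLocalizationAway g
  have hetR : Algebra.Etale R R' := Algebra.Etale.comp R R₁ R'
  have hu : ∀ y : Submonoid.powers g, IsUnit (χ₁ y) := by
    rintro ⟨_, m, rfl⟩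
    rw [map_pow]
    exact hg.pow m
  let χ : R' →ₐ[R] H := IsLocalization.liftAlgHom (M := Submonoid.powers g) (f := χ₁) hu
  let j : R₁ →ₐ[R] R' := IsScalarTower.toAlgHom R R₁ R'
  have hχj : χ.comp j = χ₁ := AlgHom.ext fun x => IsLocalization.lift_eq _ x
  let τ' : E →ₐ[R] R' ⊗[R] D := (Algebra.TensorProduct.map j (AlgHom.id R D)).comp τ₁
  refine ⟨R', inferInstance, inferInstance, hetR, χ, τ', ?_, ?_⟩
  · rw [← hτ₁, ← hχj]
    change (Algebra.TensorProduct.map χ (AlgHom.id R D)).comp
      ((Algebra.TensorProduct.map j (AlgHom.id R D)).comp τ₁) = _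
    rw [← AlgHom.comp_assoc]
    congr 1
    apply Algebra.TensorProduct.ext'
    intro a b
    simp
  · intro x hx
    let mE := TensorProduct.AlgebraTensorModule.rTensor R E (Algebra.linearMap R₁ R')
    let mD := TensorProduct.AlgebraTensorModule.rTensor R D (Algebra.linearMap R₁ R')
    have hmE : IsLocalizedModule (Submonoid.powers g) mE := inferInstance
    have hmD : IsLocalizedModule (Submonoid.powers g) mD := inferInstance
    have hjE : ∀ y, Algebra.TensorProduct.map j (AlgHom.id R E) y = mE y := by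
      intro y
      induction y using TensorProduct.induction_on with
      | zero => simp
      | add x y hx hy => simp only [map_add, hx, hy]
      | tmul a b => rfl
    have hjD : ∀ y, Algebra.TensorProduct.map j (AlgHom.id R D) y = mD y := by
      intro y
      induction y using TensorProduct.induction_on with
      | zero => simp
      | add x y hx hy => simp only [map_add, hx, hy]
      | tmul a b => rfl
    obtain ⟨⟨y, s⟩, hys⟩ := IsLocalizedModule.surj (Submonoid.powers g) mE x
    have h1 : mD (Psi τ₁ y) = 0 := by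
      rw [← hjD, map_Psi j τ₁ τ' rfl, hjE, ← hys]
      have h2 : Psi τ' (s • x) = algebraMap R₁ R' (s : R₁) • Psi τ' x := by
        rw [← map_smul, algebraMap_smul]
        rfl
      rw [h2, hx, smul_zero]
    obtain ⟨s', hs'⟩ := (IsLocalizedModule.eq_zero_iff (Submonoid.powers g) mD).1 h1
    have h3 : s' • y ∈ N₁ := by
      change Psi τ₁ ((s' : R₁) • y) = 0
      rw [map_smul]
      exact hs'
    have h4 := hgk _ h3
    refine ⟨k, ?_⟩
    have h5 : (g * (s' : R₁) * (s : R₁)) • (F ^ k • x) = 0 := by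
      have h6 : (g * (s' : R₁) * (s : R₁)) • (F ^ k • x) =
          (g * algebraMap R R₁ F ^ k) • ((s' : R₁) • ((s : R₁) • x)) := by
        rw [smul_smul, smul_smul, ← map_pow, ← algebraMap_smul R₁ (F ^ k) x, smul_smul]
        congr 1
        ring
      rw [h6]
      have h7 : (s : R₁) • x = mE y := hys
      rw [h7, ← map_smul, ← map_smul]
      have h8 : (g * algebraMap R R₁ F ^ k) • (s' : R₁) • y = 0 := h4
      rw [h8, map_zero]
    have h9 : IsUnit (algebraMap R₁ R' (g * (s' : R₁) * (s : R₁))) := by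
      have e1 : IsUnit (algebraMap R₁ R' g) := IsLocalization.Away.algebraMap_isUnit g
      have e2 : IsUnit (algebraMap R₁ R' (s' : R₁)) := IsLocalization.map_units R' s'
      have e3 : IsUnit (algebraMap R₁ R' (s : R₁)) := IsLocalization.map_units R' s
      rw [map_mul, map_mul]
      exact (e1.mul e2).mul e3
    rw [← algebraMap_smul R'] at h5
    exact h9.smul_eq_zero.1 h5

end

end K852.AbhC
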