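import Mathlib.RingTheory.MvPolynomial.Basic
import Mathlib.RingTheory.TensorProduct.MvPolynomial
import Mathlib.RingTheory.FiniteType
import Mathlib.RingTheory.IntegralClosure.Algebra.Basic
import Mathlib.RingTheory.IntegralClosure.IsIntegral.Basic
import Mathlib.RingTheory.IntegralClosure.IsIntegralClosure.Basic
import Mathlib.RingTheory.Polynomial.Quotient

/-!
# Kummer algebras for families indexed by a type
-/

set_option autoImplicit false
universe u v

namespace K852.KumDef

open TensorProduct

/-- the ideal `(T_i^n - z_i)` -/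
noncomputable abbrev kumIdeal {R : Type u} [CommRing R] {ι : Type} (z : ι → R) (n : ℕ) :
    Ideal (MvPolynomial ι R) :=
  Ideal.span (Set.range fun i => (MvPolynomial.X i : MvPolynomial ι R) ^ n - MvPolynomial.C (z i))

/-- `R[T_i]/(T_i^n - z_i)` -/
def Kum {R : Type u} [CommRing R] {ι : Type} (z : ι → R) (n : ℕ) : Type u :=
  MvPolynomial ι R ⧸ kumIdeal z n

variable {R : Type u} [CommRing R] {ι : Type} (z : ι → R) (n : ℕ)

noncomputable instance : CommRing (Kum z n) :=
  inferInstanceAs (CommRing (MvPolynomial ι R ⧸ kumIdeal z n))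

noncomputable instance {S₀ : Type v} [CommSemiring S₀] [Algebra S₀ R] : Algebra S₀ (Kum z n) :=
  inferInstanceAs (Algebra S₀ (MvPolynomial ι R ⧸ kumIdeal z n))

instance {S₀ : Type v} [CommSemiring S₀] [Algebra S₀ R] : IsScalarTower S₀ R (Kum z n) :=
  inferInstanceAs (IsScalarTower S₀ R (MvPolynomial ι R ⧸ kumIdeal z n))

/-- the projection -/
noncomputable def mk : MvPolynomial ι R →ₐ[R] Kum z n := Ideal.Quotient.mkₐ R (kumIdeal z n)

theorem mk_surjective : Function.Surjective (mk z n) := Ideal.Quotient.mk_surjective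

theorem mk_eq_zero {p : MvPolynomial ι R} (hp : p ∈ kumIdeal z n) : mk z n p = 0 :=
  Ideal.Quotient.eq_zero_iff_mem.2 hp

/-- the identification with the quotient -/
noncomputable def equivQuot : Kum z n ≃ₐ[R] MvPolynomial ι R ⧸ kumIdeal z n :=
  (AlgEquiv.refl : (MvPolynomial ι R ⧸ kumIdeal z n) ≃ₐ[R] MvPolynomial ι R ⧸ kumIdeal z n)

/-- the variables -/
noncomputable def T (i : ι) : Kum z n := mk z n (MvPolynomial.X i)

theorem T_pow (i : ι) : T z n i ^ n = algebraMap R (Kum z n) (z i) := by
  rw [T, ← map_pow, ← sub_eq_zero, ← AlgHom.commutes (mk z n), ← map_sub]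
  exact mk_eq_zero z n (Ideal.subset_span ⟨i, rfl⟩)

/-- Universal property. -/
noncomputable def lift {S : Type v} [CommRing S] [Algebra R S] (t : ι → S)
    (ht : ∀ i, t i ^ n = algebraMap R S (z i)) : Kum z n →ₐ[R] S :=
  Ideal.Quotient.liftₐ (kumIdeal z n) (MvPolynomial.aeval t) (by
    intro a ha
    rw [← RingHom.mem_ker]
    refine (Ideal.span_le.mpr ?_ : Ideal.span _ ≤ RingHom.ker (MvPolynomial.aeval t)) ha
    rintro _ ⟨i, rfl⟩
    simp [RingHom.mem_ker, ht i])

theorem lift_mk {S : Type v} [CommRing S] [Algebra R S] (t : ι → S)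
    (ht : ∀ i, t i ^ n = algebraMap R S (z i)) (p : MvPolynomial ι R) :
    lift z n t ht (mk z n p) = MvPolynomial.aeval t p := rfl

@[simp]
theorem lift_T {S : Type v} [CommRing S] [Algebra R S] (t : ι → S)
    (ht : ∀ i, t i ^ n = algebraMap R S (z i)) (i : ι) : lift z n t ht (T z n i) = t i := by
  rw [T, lift_mk, MvPolynomial.aeval_X]

theorem ringHom_ext {S : Type v} [CommRing S] {φ ψ : Kum z n →+* S}
    (h0 : ∀ r, φ (algebraMap R (Kum z n) r) = ψ (algebraMap R (Kum z n) r))
    (h : ∀ i, φ (T z n i) = ψ (T z n i)) : φ = ψ := by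
  have h1 : φ.comp (mk z n : MvPolynomial ι R →+* Kum z n) = ψ.comp (mk z n : MvPolynomial ι R →+* Kum z n) := by
    apply MvPolynomial.ringHom_ext
    · exact fun r => h0 r
    · exact fun i => h i
  apply RingHom.ext
  intro x
  obtain ⟨p, rfl⟩ := mk_surjective z n x
  exact congrArg (fun f : MvPolynomial ι R →+* S => f p) h1

theorem hom_ext {S : Type v} [CommRing S] [Algebra R S] {φ ψ : Kum z n →ₐ[R] S}
    (h : ∀ i, φ (T z n i) = ψ (T z n i)) : φ = ψ := by
  have h1 : (φ : Kum z n →+* S) = ψ :=
    ringHom_ext z n (fun r => (φ.commutes r).trans (ψ.commutes r).symm) h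
  apply AlgHom.ext
  intro x
  exact congrArg (fun f : Kum z n →+* S => f x) h1

theorem finite [Finite ι] (hn : 1 ≤ n) : Module.Finite R (Kum z n) := by
  have hint : Algebra.IsIntegral R (Kum z n) := by
    constructor
    intro x
    obtain ⟨p, rfl⟩ := mk_surjective z n x
    induction p using MvPolynomial.induction_on with
    | C a =>
      have : mk z n (MvPolynomial.C a) = algebraMap R _ a := (mk z n).commutes a
      rw [this]
      exact isIntegral_algebraMap
    | add p q hp hq => rw [map_add]; exact hp.add hq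
    | mul_X p i hp =>
      rw [map_mul]
      refine hp.mul ?_
      refine ⟨Polynomial.X ^ n - Polynomial.C (z i), Polynomial.monic_X_pow_sub_C _ (by omega), ?_⟩
      simp only [Polynomial.eval₂_sub, Polynomial.eval₂_X_pow, Polynomial.eval₂_C]
      have h := T_pow z n i
      rw [T] at h
      rw [h, sub_self]
  have : Algebra.FiniteType R (Kum z n) :=
    Algebra.FiniteType.of_surjective (mk z n) (mk_surjective z n)
  exact Algebra.IsIntegral.finite

section

variable (R' : Type u) [CommRing R'] [Algebra R R']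

/-- Base change, one direction -/
noncomputable def bc1 : R' ⊗[R] Kum z n →ₐ[R'] Kum (fun i => algebraMap R R' (z i)) n :=
  Algebra.TensorProduct.lift (Algebra.ofId R' _)
    (lift z n (T (fun i => algebraMap R R' (z i)) n) (fun i => by
      rw [T_pow]
      exact (IsScalarTower.algebraMap_apply R R' (Kum (fun i => algebraMap R R' (z i)) n) (z i)).symm))
    (fun _ _ => Commute.all _ _)

theorem bc1_tmul_T (i : ι) : bc1 z n R' (1 ⊗ₜ T z n i) = T (fun i => algebraMap R R' (z i)) n i := by
  rw [bc1, Algebra.TensorProduct.lift_tmul, map_one, one_mul, lift_T]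

/-- Base change, other direction -/
noncomputable def bc2 : Kum (fun i => algebraMap R R' (z i)) n →ₐ[R'] R' ⊗[R] Kum z n :=
  lift (fun i => algebraMap R R' (z i)) n (fun i => (1 : R') ⊗ₜ[R] T z n i) (fun i => by
    rw [Algebra.TensorProduct.tmul_pow, one_pow, T_pow, Algebra.TensorProduct.algebraMap_apply,
      Algebra.algebraMap_self, RingHom.id_apply, Algebra.algebraMap_eq_smul_one,
      Algebra.algebraMap_eq_smul_one, TensorProduct.smul_tmul])

theorem bc2_T (i : ι) : bc2 z n R' (T _ n i) = (1 : R') ⊗ₜ[R] T z n i := lift_T _ _ _ _ _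

/-- Base change. -/
noncomputable def baseChange : R' ⊗[R] Kum z n ≃ₐ[R'] Kum (fun i => algebraMap R R' (z i)) n :=
  AlgEquiv.ofAlgHom (bc1 z n R') (bc2 z n R')
    (by
      apply hom_ext
      intro i
      change bc1 z n R' (bc2 z n R' (T _ n i)) = T _ n i
      rw [bc2_T, bc1_tmul_T])
    (by
      apply Algebra.TensorProduct.ext (by ext)
      apply hom_ext
      intro i
      change bc2 z n R' (bc1 z n R' ((1 : R') ⊗ₜ[R] T z n i)) = (1 : R') ⊗ₜ[R] T z n i
      rw [bc1_tmul_T, bc2_T])

theorem baseChange_tmul_T (i : ι) :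
    baseChange z n R' (1 ⊗ₜ T z n i) = T (fun i => algebraMap R R' (z i)) n i := bc1_tmul_T z n R' i

end

end K852.KumDef
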