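import Groth.Agent.EtDl.K852.AbhA
import Groth.Agent.EtDl.K852.AbhB
import Groth.Agent.EtDl.K852.AbhC
import Groth.Agent.EtDl.K852.KumDef
import Groth.Agent.Sga1.StrictReg
import Groth.Agent.EtpbcB.SBCPoint

/-!
# Abhyankar splitting for strict normal crossings families
-/

set_option autoImplicit false
universe u

namespace K852.AbhD

open IsLocalRing TensorProduct K556.CertDef K852.KumDef K852.AbhC

/-- Roots of units in a henselian local ring with separably closed residue field. -/
theorem exists_pow_eq {B : Type*} [CommRing B] [HenselianLocalRing B] [IsSepClosed (ResidueField B)]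
    (n : ℕ) (hn : ((n : ℕ) : ResidueField B) ≠ 0) (u : B) (hu : IsUnit u) : ∃ w : B, w ^ n = u := by
  have hn0 : n ≠ 0 := by
    rintro rfl
    exact hn (by simp)
  have : NeZero ((n : ℕ) : ResidueField B) := ⟨hn⟩
  obtain ⟨z, hz⟩ := IsSepClosed.exists_pow_nat_eq (residue B u) n
  obtain ⟨z', rfl⟩ := residue_surjective z
  have hu0 : residue B (u : B) ≠ 0 := (residue_ne_zero_iff_isUnit _).mpr hu
  have hz0 : residue B z' ≠ 0 := by
    intro h
    rw [h, zero_pow hn0] at hz
    exact hu0 hz.symm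
  let f : Polynomial B := Polynomial.X ^ n - Polynomial.C (u : B)
  have hf : f.Monic := Polynomial.monic_X_pow_sub_C _ hn0
  have h1 : f.eval z' ∈ maximalIdeal B := by
    rw [← residue_eq_zero_iff]
    simp [f, hz]
  have h2 : IsUnit (f.derivative.eval z') := by
    rw [← residue_ne_zero_iff_isUnit]
    simp only [f, Polynomial.derivative_sub, Polynomial.derivative_X_pow, Polynomial.derivative_C,
      sub_zero, Polynomial.eval_mul, Polynomial.eval_pow, Polynomial.eval_X, map_mul, map_pow,
      Polynomial.eval_natCast, map_natCast]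
    exact mul_ne_zero hn (pow_ne_zero _ hz0)
  obtain ⟨w, hw, hwz⟩ := HenselianLocalRing.is_henselian f hf z' h1 h2
  have hw' : w ^ n = u := by
    have : f.eval w = 0 := hw
    simpa [f, sub_eq_zero] using this
  exact ⟨w, hw'⟩

/-- Étaleness after base change to a ring in which `F` is invertible. -/
theorem etale_of_away {R E Q : Type u} [CommRing R] [CommRing E] [CommRing Q] [Algebra R E] [Algebra R Q]
    (F : R) [Algebra.Etale R (Localization.Away (algebraMap R E F))] (hF : IsUnit (algebraMap R Q F)) :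
    Algebra.Etale Q (Q ⊗[R] E) := by
  let L := Localization.Away (algebraMap R E F)
  have h1 : Algebra.Etale Q (Q ⊗[R] L) := inferInstance
  let j : E →ₐ[R] L := IsScalarTower.toAlgHom R E L
  have hu : IsUnit ((Algebra.TensorProduct.includeRight : E →ₐ[R] Q ⊗[R] E) (algebraMap R E F)) := by
    rw [AlgHom.commutes, IsScalarTower.algebraMap_apply R Q (Q ⊗[R] E)]
    exact hF.map _
  have hu' : ∀ y : Submonoid.powers (algebraMap R E F),
      IsUnit ((Algebra.TensorProduct.includeRight : E →ₐ[R] Q ⊗[R] E) y) := by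
    rintro ⟨_, m, rfl⟩
    rw [map_pow]
    exact hu.pow m
  let g : L →ₐ[R] Q ⊗[R] E := IsLocalization.liftAlgHom (M := Submonoid.powers (algebraMap R E F))
    (f := (Algebra.TensorProduct.includeRight : E →ₐ[R] Q ⊗[R] E)) hu'
  have hg : ∀ x : E, g (j x) = 1 ⊗ₜ x := fun x => IsLocalization.lift_eq _ x
  let e : Q ⊗[R] L ≃ₐ[Q] Q ⊗[R] E := AlgEquiv.ofAlgHom
    (Algebra.TensorProduct.lift (Algebra.ofId Q _) g (fun _ _ => Commute.all _ _))
    (Algebra.TensorProduct.map (AlgHom.id Q Q) j)
    (by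
      apply Algebra.TensorProduct.ext (by ext)
      apply AlgHom.ext
      intro x
      change (Algebra.TensorProduct.lift (Algebra.ofId Q (Q ⊗[R] E)) g (fun _ _ => Commute.all _ _))
        (Algebra.TensorProduct.map (AlgHom.id Q Q) j ((1 : Q) ⊗ₜ[R] x)) = (1 : Q) ⊗ₜ[R] x
      rw [Algebra.TensorProduct.map_tmul, Algebra.TensorProduct.lift_tmul, map_one, map_one, one_mul, hg])
    (by
      apply Algebra.TensorProduct.ext (by ext)
      apply IsLocalization.algHom_ext (Submonoid.powers (algebraMap R E F))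
      apply AlgHom.ext
      intro x
      change Algebra.TensorProduct.map (AlgHom.id Q Q) j
        ((Algebra.TensorProduct.lift (Algebra.ofId Q (Q ⊗[R] E)) g (fun _ _ => Commute.all _ _))
          ((1 : Q) ⊗ₜ[R] j x)) = (1 : Q) ⊗ₜ[R] j x
      rw [Algebra.TensorProduct.lift_tmul, map_one, one_mul, hg, Algebra.TensorProduct.map_tmul]
      rfl)
  exact Algebra.Etale.of_equiv e

theorem toCalg {A B : Type u} [CommRing A] [CommRing B] [Algebra A B] (h : EtPBC.IsIndEtale A B) :
    Groth.Agent.CalgC.IndEtale.IsIndEtale A B := by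
  intro P _ _ _ φ
  obtain ⟨W, a, b, u, v, hE, h⟩ := (Groth.Agent.Proet.IndEtale.isIndEtale_iff_factor A B).1 h P inferInstance φ
  exact ⟨W, a, b, hE, u, v, h⟩

/-- Lifting primes along integral homomorphisms with torsion kernel. -/
theorem exists_prime_over {A B : Type u} [CommRing A] [CommRing B] (f : A →+* B) (hf : f.IsIntegral)
    (P : PrimeSpectrum A) (h : RingHom.ker f ≤ P.asIdeal) : ∃ Q : PrimeSpectrum B, Q.comap f = P := by
  let _ : Algebra A B := f.toAlgebra
  have : Algebra.IsIntegral A B := algebraMap_isIntegral_iff.1 hf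
  obtain ⟨Q, hQ, hQP⟩ := Ideal.exists_ideal_over_prime_of_isIntegral (S := B) P.asIdeal ⊥
    (le_trans (le_of_eq (RingHom.ker_eq_comap_bot f).symm) h)
  exact ⟨⟨Q, hQP.1⟩, PrimeSpectrum.ext hQP.2⟩

section

variable {R : Type u} [CommRing R] {ι : Type} {z : ι → R}

/-- The strict henselization at a prime. -/
theorem exists_hull (h : SNC R z) (p : PrimeSpectrum R) :
    ∃ (H : Type u) (_ : CommRing H) (_ : IsRegularLocalRing H) (_ : Algebra R H),
      HenselianLocalRing H ∧ IsSepClosed (ResidueField H) ∧ Module.Flat R H ∧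
      Groth.Agent.CalgC.IndEtale.IsIndEtale R H ∧
      PrimeSpectrum.comap (algebraMap R H) (closedPoint H) = p ∧
      ∀ {r : ℕ} (e : Fin r → ι) (_ : Function.Injective e) (_ : ∀ i, z (e i) ∈ p.asIdeal),
        ∃ hm : ∀ i, algebraMap R H (z (e i)) ∈ maximalIdeal H,
          LinearIndependent (ResidueField H)
            (fun i => (maximalIdeal H).toCotangent ⟨algebraMap R H (z (e i)), hm i⟩) := by
  have hreg := AbhB.isRegularRing h
  let A := Localization.AtPrime p.asIdeal
  have hA : IsRegularLocalRing A := inferInstance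
  obtain ⟨H, _, _, _, _, hH⟩ := Groth.Agent.S0537.result A
  have h1 := Groth.Agent.S0538.result A H
  have h2 := Groth.Agent.S0539.result A H
  have h4 := Groth.Agent.S0541.result A H
  have h5 : IsRegularLocalRing H := (Groth.Agent.S2743.result A H).2 inferInstance
  have h6 := hH.isSepClosure
  let _ : Algebra R H := ((algebraMap A H).comp (algebraMap R A)).toAlgebra
  have htow : IsScalarTower R A H := .of_algebraMap_eq fun _ => rfl
  have hflat : Module.Flat R H := Module.Flat.trans R A H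
  have hind : EtPBC.IsIndEtale R H := Groth.Agent.Proet.IndEtale.isIndEtale_trans R A H
    (Groth.Agent.EtpbcB.SBCPoint.isIndEtale_of_isLocalization p.asIdeal.primeCompl _)
    (Groth.Agent.EtpbcB.SBCPoint.isIndEtale_of_isStrictHenselization _ _)
  refine ⟨H, inferInstance, h5, inferInstance, hH.henselian, h6.sep_closed, hflat, toCalg hind, ?_, ?_⟩
  · apply PrimeSpectrum.ext
    ext x
    have e1 : x ∈ (PrimeSpectrum.comap (algebraMap R H) (closedPoint H)).asIdeal ↔
        algebraMap A H (algebraMap R A x) ∈ maximalIdeal H := Iff.rfl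
    rw [e1, mem_maximalIdeal, mem_nonunits_iff, isUnit_map_iff (algebraMap A H), ← mem_nonunits_iff,
      ← mem_maximalIdeal]
    exact IsLocalization.AtPrime.to_map_mem_maximal_iff A p.asIdeal x
  · intro r e he hp
    have hm0 : ∀ i, algebraMap R A (z (e i)) ∈ maximalIdeal A := fun i =>
      (IsLocalization.AtPrime.to_map_mem_maximal_iff A p.asIdeal _).2 (hp i)
    have hm' : ∀ i, algebraMap A H (algebraMap R A (z (e i))) ∈ maximalIdeal H := fun i => by
      rw [← h1]; exact Ideal.mem_map_of_mem _ (hm0 i)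
    exact ⟨hm', Groth.Agent.Sga1.StrictReg.linearIndependent_map h1 h4 (fun i => algebraMap R A (z (e i))) hm0
      (AbhB.linearIndependent p.asIdeal h e he hm0) hm'⟩

/-- **Abhyankar splitting** for a strict normal crossings family: over étale neighbourhoods, a finite algebra `E`
which is étale over the complement of the divisor is dominated over this complement by Kummer algebras. -/
theorem abhSplit [Fintype ι] (hQ : ∀ n : ℕ, 0 < n → IsUnit (n : R)) (h : SNC R z) (E : Type u) [CommRing E]
    [Algebra R E] [Module.Finite R E] [Algebra.Etale R (Localization.Away (algebraMap R E (∏ i, z i)))]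
    (p : PrimeSpectrum R) :
    ∃ (R' : Type u) (_ : CommRing R') (_ : Algebra R R') (_ : Algebra.Etale R R') (p' : PrimeSpectrum R')
      (_ : PrimeSpectrum.comap (algebraMap R R') p' = p) (n : ℕ) (_ : 1 ≤ n) (d : ℕ)
      (φ : Fin d → (R' ⊗[R] E →ₐ[R'] Kum (fun i => algebraMap R R' (z i)) n)),
      ∀ P : PrimeSpectrum (R' ⊗[R] E), algebraMap R (R' ⊗[R] E) (∏ i, z i) ∉ P.asIdeal →
        ∃ (j : Fin d) (Q : PrimeSpectrum (Kum (fun i => algebraMap R R' (z i)) n)),
          PrimeSpectrum.comap (φ j).toRingHom Q = P := by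
  classical
  have hreg := AbhB.isRegularRing h
  have hnoeth : IsNoetherianRing R := inferInstance
  obtain ⟨H, _, hHreg, _, hHh, hHs, hHf, hHi, hHp, hHl⟩ := exists_hull h p
  let J := {i : ι // z i ∈ p.asIdeal}
  let e0 : Fin (Fintype.card J) ≃ J := (Fintype.equivFin J).symm
  let e : Fin (Fintype.card J) → ι := fun i => (e0 i).1
  have he : Function.Injective e := Subtype.val_injective.comp e0.injective
  obtain ⟨hm, hf⟩ := hHl e he (fun i => (e0 i).2)
  let f : Fin (Fintype.card J) → H := fun i => algebraMap R H (z (e i))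
  let F : R := ∏ i, z i
  have hunit : ∀ i, z i ∉ p.asIdeal → IsUnit (algebraMap R H (z i)) := by
    intro i hi
    by_contra hn
    apply hi
    have h1 : z i ∈ (PrimeSpectrum.comap (algebraMap R H) (closedPoint H)).asIdeal :=
      (mem_maximalIdeal _).2 hn
    rwa [hHp] at h1
  obtain ⟨c, hc, hcF⟩ : ∃ c : H, IsUnit c ∧ algebraMap R H F = c * ∏ i, f i := by
    refine ⟨algebraMap R H (∏ i : {i // ¬ z i ∈ p.asIdeal}, z i.1), ?_, ?_⟩
    · rw [map_prod]
      rw [IsUnit.prod_iff]
      intro i _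
      exact hunit i.1 i.2
    · have h1 : (∏ i, f i) = algebraMap R H (∏ i : J, z i.1) := by
        rw [map_prod, ← Equiv.prod_comp e0]
      have h2 : F = (∏ i : J, z i.1) * ∏ i : {i // ¬ z i ∈ p.asIdeal}, z i.1 :=
        (Fintype.prod_subtype_mul_prod_subtype (fun i => z i ∈ p.asIdeal) z).symm
      rw [h1, h2, map_mul, mul_comm]
  have hchar : CharZero (ResidueField H) := by
    refine charZero_of_inj_zero fun n hn0 => ?_
    by_contra hne
    have h1 := (hQ n (Nat.pos_of_ne_zero hne)).map (algebraMap R (ResidueField H))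
    rw [map_natCast, hn0] at h1
    exact not_isUnit_zero h1
  let Q := Localization.Away (∏ i, f i)
  have hFQ : IsUnit (algebraMap R Q F) := by
    rw [IsScalarTower.algebraMap_apply R H Q, hcF, map_mul]
    exact (hc.map _).mul (IsLocalization.Away.algebraMap_isUnit (S := Q) (∏ i, f i))
  have hE : Algebra.Etale Q (Q ⊗[H] (H ⊗[R] E)) := by
    have h1 : Algebra.Etale Q (Q ⊗[R] E) := etale_of_away F hFQ
    exact Algebra.Etale.of_equiv (Algebra.TensorProduct.cancelBaseChange R H Q Q E).symm
  obtain ⟨n, hn, d, φ, hφ⟩ := AbhA.split_strict H f hm hf (H ⊗[R] E) hE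
  have hnres : ((n : ℕ) : ResidueField H) ≠ 0 := by
    rw [Nat.cast_ne_zero]
    omega
  have hw : ∀ i, ∃ w : H, z i ∉ p.asIdeal → w ^ n = algebraMap R H (z i) := by
    intro i
    by_cases hi : z i ∈ p.asIdeal
    · exact ⟨0, fun h => absurd hi h⟩
    · obtain ⟨w, hw⟩ := exists_pow_eq n hnres _ (hunit i hi)
      exact ⟨w, fun _ => hw⟩
  choose w hw using hw
  let zH : ι → H := fun i => algebraMap R H (z i)
  let K := SGA1.kummerAlg H f (fun _ => n)
  let β : K →ₐ[H] Kum zH n := Groth.Agent.Sga1.Kummer.lift f (fun _ => n) (fun i => T zH n (e i))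
    (fun i => T_pow zH n (e i))
  let t : ι → K := fun i => if hi : z i ∈ p.asIdeal then
    Groth.Agent.Sga1.Kummer.T f (fun _ => n) (e0.symm ⟨i, hi⟩) else algebraMap H K (w i)
  have ht : ∀ i, t i ^ n = algebraMap H K (zH i) := by
    intro i
    by_cases hi : z i ∈ p.asIdeal
    · simp only [t, dif_pos hi]
      have h1 := Groth.Agent.Sga1.Kummer.T_pow f (fun _ => n) (e0.symm ⟨i, hi⟩)
      refine h1.trans ?_
      have h2 : f (e0.symm ⟨i, hi⟩) = zH i := by
        simp [f, e, zH]
      rw [h2]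
    · simp only [t, dif_neg hi]
      rw [← map_pow, hw i hi]
  let ρ : Kum zH n →ₐ[H] K := KumDef.lift zH n t ht
  have hρβ : ρ.comp β = AlgHom.id H K := by
    apply Groth.Agent.Sga1.Kummer.hom_ext
    intro i
    change ρ (β (Groth.Agent.Sga1.Kummer.T f (fun _ => n) i)) = Groth.Agent.Sga1.Kummer.T f (fun _ => n) i
    rw [Groth.Agent.Sga1.Kummer.lift_T, KumDef.lift_T]
    have h1 : z (e i) ∈ p.asIdeal := (e0 i).2
    simp only [t, dif_pos h1]
    congr 1
    rw [Equiv.symm_apply_eq]
  have hβ : Function.Injective β := by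
    have h1 : Function.LeftInverse ρ β := fun x => congrArg (fun g : K →ₐ[H] K => g x) hρβ
    exact h1.injective
  let D := Fin d → Kum z n
  have hKfin : Module.Finite R (Kum z n) := KumDef.finite z n hn
  have hDfin : Module.Finite R D := inferInstance
  let pr : H ⊗[R] D ≃ₐ[H] (Fin d → H ⊗[R] Kum z n) :=
    Algebra.TensorProduct.piRight R H H (fun _ : Fin d => Kum z n)
  let bcH : H ⊗[R] Kum z n ≃ₐ[H] Kum zH n := baseChange z n H
  let Θ : H ⊗[R] E →ₐ[H] H ⊗[R] D := pr.symm.toAlgHom.comp
    (AlgHom.pi (fun j => (bcH.symm.toAlgHom.comp (β.comp (φ j)))))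
  let τ : E →ₐ[R] H ⊗[R] D := (Θ.restrictScalars R).comp Algebra.TensorProduct.includeRight
  have hΘ : Psi τ = Θ := by
    apply Algebra.TensorProduct.ext (by ext)
    apply AlgHom.ext
    intro x
    change Psi τ ((1 : H) ⊗ₜ[R] x) = Θ ((1 : H) ⊗ₜ[R] x)
    rw [Psi_tmul, ← Algebra.TensorProduct.one_def, one_mul]
    rfl
  have hτ : ∀ x : H ⊗[R] E, Psi τ x = 0 → ∃ N : ℕ, F ^ N • x = 0 := by
    intro x hx
    rw [hΘ] at hx
    have h1 : (AlgHom.pi (fun j => (bcH.symm.toAlgHom.comp (β.comp (φ j))))) x = 0 :=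
      (map_eq_zero_iff pr.symm pr.symm.injective).1 hx
    obtain ⟨N, hN⟩ := hφ x (fun j => by
      have h2 : bcH.symm (β (φ j x)) = 0 := congrFun h1 j
      exact (map_eq_zero_iff β hβ).1 ((map_eq_zero_iff bcH.symm bcH.symm.injective).1 h2))
    refine ⟨N, ?_⟩
    rw [← algebraMap_smul H (F ^ N) x, map_pow, hcF, mul_pow, mul_smul, hN, smul_zero]
  obtain ⟨R', _, _, hR', χ, τ', -, hτ'⟩ := stage hHi F τ hτ
  let pr' : R' ⊗[R] D ≃ₐ[R'] (Fin d → R' ⊗[R] Kum z n) :=
    Algebra.TensorProduct.piRight R R' R' (fun _ : Fin d => Kum z n)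
  let bc' : R' ⊗[R] Kum z n ≃ₐ[R'] Kum (fun i => algebraMap R R' (z i)) n := baseChange z n R'
  refine ⟨R', inferInstance, inferInstance, hR', PrimeSpectrum.comap χ.toRingHom (closedPoint H), ?_, n, hn, d,
    fun j => bc'.toAlgHom.comp ((Pi.evalAlgHom R' (fun _ : Fin d => R' ⊗[R] Kum z n) j).comp
      (pr'.toAlgHom.comp (Psi τ'))), fun P hP => ?_⟩
  · rw [← PrimeSpectrum.comap_comp_apply]
    have h1 : χ.toRingHom.comp (algebraMap R R') = algebraMap R H := χ.comp_algebraMap
    rw [h1, hHp]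
  · have hint : (Psi τ').toRingHom.IsIntegral := by
      have h1 : Module.Finite R' (R' ⊗[R] D) := inferInstance
      have h2 : (algebraMap R' (R' ⊗[R] D)).IsIntegral := algebraMap_isIntegral_iff.2 inferInstance
      have h3 : (Psi τ').toRingHom.comp (algebraMap R' (R' ⊗[R] E)) = algebraMap R' (R' ⊗[R] D) :=
        (Psi τ').comp_algebraMap
      rw [← h3] at h2
      exact RingHom.IsIntegral.tower_top _ _ h2
    have hker : RingHom.ker (Psi τ').toRingHom ≤ P.asIdeal := by
      intro x hx
      obtain ⟨N, hN⟩ := hτ' x hx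
      rw [Algebra.smul_def, map_pow] at hN
      have h1 : algebraMap R (R' ⊗[R] E) F ^ N * x ∈ P.asIdeal := by
        rw [hN]
        exact P.asIdeal.zero_mem
      rcases P.isPrime.mem_or_mem h1 with h2 | h2
      · exact absurd (P.isPrime.mem_of_pow_mem _ h2) hP
      · exact h2
    obtain ⟨Q1, hQ1⟩ := exists_prime_over (Psi τ').toRingHom hint P hker
    let Q2 : PrimeSpectrum (Fin d → R' ⊗[R] Kum z n) := PrimeSpectrum.comap pr'.symm.toAlgHom.toRingHom Q1
    obtain ⟨j, q, hq⟩ := PrimeSpectrum.exists_comap_evalRingHom_eq Q2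
    refine ⟨j, PrimeSpectrum.comap bc'.symm.toAlgHom.toRingHom q, ?_⟩
    rw [← hQ1]
    apply PrimeSpectrum.ext
    ext x
    change bc'.symm (bc' (pr' (Psi τ' x) j)) ∈ q.asIdeal ↔ Psi τ' x ∈ Q1.asIdeal
    rw [AlgEquiv.symm_apply_apply]
    have h1 : pr' (Psi τ' x) j ∈ q.asIdeal ↔ pr' (Psi τ' x) ∈ Q2.asIdeal := by
      rw [← hq]
      rfl
    rw [h1]
    change pr'.symm (pr' (Psi τ' x)) ∈ Q1.asIdeal ↔ _
    rw [AlgEquiv.symm_apply_apply]

end

end K852.AbhD
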