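import Groth.Agent.EtDl.K852.FiniteStep
import Groth.Agent.EtDl.K556.SncPoly

/-!
# Kummer algebras of strict normal crossings families; the unconditional finite step
-/

set_option autoImplicit false
universe u

open CategoryTheory AlgebraicGeometry Polynomial

namespace K852.FiniteStepMain

open K556.CertDef K556.SncAlg K556.SncPoly K852.KumDef

variable {ι : Type} {R : Type u} [CommRing R]

/-- Adjoining `n`-th roots of the members of a finite subfamily. -/
theorem exists_adjoin [DecidableEq ι] {z : ι → R} (h : SNC R z) (n : ℕ) (hn : 1 ≤ n) (hu : IsUnit (n : R))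
    (S : Finset ι) :
    ∃ (A : Type u) (_ : CommRing A) (_ : Algebra R A) (t : ι → A), SNC A t ∧
      (∀ i, i ∉ S → t i = algebraMap R A (z i)) ∧ (∀ i ∈ S, t i ^ n = algebraMap R A (z i)) ∧
      (∀ (B : Type u) [CommRing B] [Algebra R B] (b : ι → B), (∀ i ∈ S, b i ^ n = algebraMap R B (z i)) →
        ∃ f : A →ₐ[R] B, ∀ i ∈ S, f (t i) = b i) ∧
      (∀ (B : Type u) [CommRing B] [Algebra R B] (f g : A →ₐ[R] B), (∀ i ∈ S, f (t i) = g (t i)) → f = g) := by
  induction S using Finset.induction_on with
  | empty =>
    refine ⟨R, inferInstance, inferInstance, z, h, fun i _ => rfl, fun i hi => absurd hi (by simp), ?_, ?_⟩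
    · intro B _ _ b _
      exact ⟨Algebra.ofId R B, fun i hi => absurd hi (by simp)⟩
    · intro B _ _ f g _
      exact Subsingleton.elim f g
  | @insert i S hi ih =>
    obtain ⟨A, _, _, t, hA, h1, h2, h3, h4⟩ := ih
    have hnA : IsUnit (n : A) := by
      have := hu.map (algebraMap R A)
      rwa [map_natCast] at this
    let N : A[X] := X ^ n - C (t i)
    have hk := SNC.kummer hA i n (by omega) hnA
    have hroot : AdjoinRoot.root N ^ n = AdjoinRoot.of N (t i) := by
      have h5 := AdjoinRoot.eval₂_root N
      rw [show N = X ^ n - C (t i) from rfl, eval₂_sub, eval₂_X_pow, eval₂_C, sub_eq_zero] at h5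
      exact h5
    refine ⟨AdjoinRoot N, inferInstance, inferInstance,
      Function.update (fun k => AdjoinRoot.of N (t k)) i (AdjoinRoot.root N), hk, ?_, ?_, ?_, ?_⟩
    · intro k hk
      rw [Finset.mem_insert, not_or] at hk
      rw [Function.update_of_ne hk.1, h1 k hk.2]
      exact (IsScalarTower.algebraMap_apply R A (AdjoinRoot N) (z k)).symm
    · intro k hk
      rw [Finset.mem_insert] at hk
      by_cases hki : k = i
      · subst hki
        rw [Function.update_self, hroot, h1 k hi]
        exact (IsScalarTower.algebraMap_apply R A (AdjoinRoot N) (z k)).symm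
      · rw [Function.update_of_ne hki, ← map_pow, h2 k (hk.resolve_left hki)]
        exact (IsScalarTower.algebraMap_apply R A (AdjoinRoot N) (z k)).symm
    · intro B _ _ b hb
      obtain ⟨f, hf⟩ := h3 B b (fun k hk => hb k (Finset.mem_insert_of_mem hk))
      have he : N.eval₂ (f : A →+* B) (b i) = 0 := by
        rw [show N = X ^ n - C (t i) from rfl, eval₂_sub, eval₂_X_pow, eval₂_C, sub_eq_zero,
          hb i (Finset.mem_insert_self _ _), h1 i hi]
        exact (f.commutes (z i)).symm
      let F : AdjoinRoot N →+* B := AdjoinRoot.lift (f : A →+* B) (b i) he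
      have hF : ∀ a, F (AdjoinRoot.of N a) = f a := fun a => AdjoinRoot.lift_of he
      refine ⟨⟨F, fun r => ?_⟩, fun k hk => ?_⟩
      · change F (algebraMap R (AdjoinRoot N) r) = _
        rw [IsScalarTower.algebraMap_apply R A (AdjoinRoot N) r]
        change F (AdjoinRoot.of N (algebraMap R A r)) = _
        rw [hF]
        exact f.commutes r
      · change F _ = _
        rw [Finset.mem_insert] at hk
        by_cases hki : k = i
        · subst hki
          rw [Function.update_self]
          exact AdjoinRoot.lift_root he
        · rw [Function.update_of_ne hki, hF]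
          exact hf k (hk.resolve_left hki)
    · intro B _ _ f g hfg
      let f' : A →ₐ[R] B := f.comp (IsScalarTower.toAlgHom R A (AdjoinRoot N))
      let g' : A →ₐ[R] B := g.comp (IsScalarTower.toAlgHom R A (AdjoinRoot N))
      have hfg' : f' = g' := by
        apply h4
        intro k hk
        have hki : k ≠ i := fun e => hi (e ▸ hk)
        have h6 := hfg k (Finset.mem_insert_of_mem hk)
        rw [Function.update_of_ne hki] at h6
        exact h6
      have h7 := hfg i (Finset.mem_insert_self _ _)
      rw [Function.update_self] at h7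
      apply AlgHom.coe_ringHom_injective
      apply Ideal.Quotient.ringHom_ext
      apply Polynomial.ringHom_ext
      · intro a
        exact congrArg (fun e : A →ₐ[R] B => e a) hfg'
      · exact h7

/-- The Kummer algebra of a strict normal crossings family. -/
theorem snc_kum [Finite ι] {z : ι → R} (h : SNC R z) (n : ℕ) (hn : 1 ≤ n) (hu : IsUnit (n : R)) :
    SNC (Kum z n) (T z n) := by
  classical
  have := Fintype.ofFinite ι
  obtain ⟨A, _, _, t, hA, -, h2, h3, h4⟩ := exists_adjoin h n hn hu (Finset.univ : Finset ι)
  obtain ⟨f, hf⟩ := h3 (Kum z n) (T z n) (fun i _ => T_pow z n i)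
  let g : Kum z n →ₐ[R] A := lift z n t (fun i => h2 i (Finset.mem_univ _))
  have hg : ∀ i, g (T z n i) = t i := fun i => lift_T z n t _ i
  let e : A ≃ₐ[R] Kum z n := AlgEquiv.ofAlgHom f g
    (by
      apply hom_ext
      intro i
      change f (g (T z n i)) = T z n i
      rw [hg, hf i (Finset.mem_univ _)])
    (by
      apply h4
      intro i hi
      change g (f (t i)) = t i
      rw [hf i hi, hg])
  exact SNC.congr (SNC.of_ringEquiv hA e.toRingEquiv) (fun i => hf i (Finset.mem_univ _))

/-- **Finite step**: certificates lift along finite morphisms étale over the open set. -/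
theorem finite_step (X : Scheme.{u}) (V : X.Opens) (h : Cert X V) (X1 : Scheme.{u})
    (hX : X ⟶ Spec (CommRingCat.of (ULift.{u} ℚ))) (g : X1 ⟶ X) [IsFinite g] [Etale (g ∣_ V)] :
    Cert X1 (g ⁻¹ᵁ V) :=
  K852.FiniteStep.finite_step_of
    (fun R R' _ _ _ _ _ _ z hz => SNC.smooth hz R')
    (fun R _ _ _ z n hn hu hz => snc_kum hz n hn (hu n (by omega))) X V h X1 hX g

end K852.FiniteStepMain
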