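import Groth.Agent.Sga1.AbhMain
import Groth.Agent.Sga1.AbhExp
import Groth.Agent.Sga1.AbhMixCore
import Groth.Agent.Sga1.KummerFinite
import Groth.Agent.Pi1.H382.Tame0
import Groth.Agent.Hensel.K143.EssEt
import Groth.Agent.S0505

/-!
# Abhyankar splitting over a strictly henselian regular local ring of residue characteristic zero
-/

set_option autoImplicit false
universe u

namespace K852.AbhA

open IsLocalRing TensorProduct SGA1

/-- Everything finite over `A[1/f_1⋯f_r]` is tame in residue characteristic zero. -/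
theorem tameAlong (A B : Type u) [CommRing A] [IsLocalRing A] [IsDomain A] [CharZero (ResidueField A)]
    {r : ℕ} (f : Fin r → A) [∀ i, (Ideal.span {f i}).IsPrime] (hf0 : ∀ i, f i ≠ 0)
    (hf : ∀ i, IsDiscreteValuationRing (Localization.AtPrime (Ideal.span {f i}))) [CommRing B] [Algebra A B]
    [Algebra (Localization.Away (∏ i, f i)) B] [IsScalarTower A (Localization.Away (∏ i, f i)) B]
    [Module.Finite (Localization.Away (∏ i, f i)) B] : SGA1.IsTameAlong f (algebraMap A B) := by
  have hF0 : ∏ i, f i ≠ 0 := Finset.prod_ne_zero_iff.mpr fun i _ => hf0 i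
  intro i q hqp hq
  have hdvr := hf i
  have : IsDomain (Localization.Away (∏ i, f i)) :=
    IsLocalization.isDomain_localization (powers_le_nonZeroDivisors_of_noZeroDivisors hF0)
  have : Algebra.IsAlgebraic A (Localization.Away (∏ i, f i)) :=
    IsLocalization.isAlgebraic (Localization.Away (∏ i, f i)) (Submonoid.powers (∏ i, f i))
  have halg : Algebra.IsAlgebraic A q.ResidueField :=
    Groth.Agent.Pi1.H382.Tame0.isAlgebraic_residueField A (Localization.Away (∏ i, f i)) B q hq
  have hchar : CharZero (ResidueField (Localization.AtPrime (Ideal.span {f i}))) :=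
    Groth.Agent.Pi1.H382.Tame0.charZero_of_residue A (algebraMap A _)
  have hg : ∀ a, SGA1.genericResidueMap (algebraMap A B) (Ideal.span {f i}) q hq
      (algebraMap A _ a) = algebraMap A q.ResidueField a := by
    intro a
    exact IsLocalization.lift_eq _ a
  have hRinj :
      Function.Injective (algebraMap A (Localization.AtPrime (Ideal.span {f i}))) :=
    IsLocalization.injective _ (Ideal.primeCompl_le_nonZeroDivisors (Ideal.span {f i}))
  have hinj : Function.Injective (algebraMap A q.ResidueField) := by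
    rw [injective_iff_map_eq_zero]
    intro a ha
    have ha' : algebraMap B q.ResidueField (algebraMap A B a) = 0 := ha
    have h5 : algebraMap A B a ∈ q := by
      rw [← Ideal.ker_algebraMap_residueField q, RingHom.mem_ker]
      exact ha'
    have h6 : a ∈ q.comap (algebraMap A B) := h5
    rw [hq] at h6
    exact h6
  refine Groth.Agent.Pi1.H382.Tame0.isTamelyRamified _ _ ?_ ?_
  · rw [injective_iff_map_eq_zero]
    intro x hx
    obtain ⟨a, s, rfl⟩ := IsLocalization.exists_mk'_eq (Ideal.span {f i}).primeCompl x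
    have h1 : SGA1.genericResidueMap (algebraMap A B) (Ideal.span {f i}) q hq
        (algebraMap A _ a) = 0 := by
      rw [← IsLocalization.mk'_spec (Localization.AtPrime (Ideal.span {f i})) a s, map_mul, hx,
        zero_mul]
    rw [hg] at h1
    rw [IsLocalization.mk'_eq_zero_iff]
    exact ⟨1, by rw [(injective_iff_map_eq_zero _).mp hinj a h1, mul_zero]⟩
  · intro x
    obtain ⟨P, hP0, hP⟩ := halg.isAlgebraic x
    refine ⟨P.map (algebraMap A _), (Polynomial.map_ne_zero_iff hRinj).mpr hP0, ?_⟩
    rw [Polynomial.eval₂_map]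
    have : (SGA1.genericResidueMap (algebraMap A B) (Ideal.span {f i}) q hq).comp
        (algebraMap A (Localization.AtPrime (Ideal.span {f i}))) = algebraMap A q.ResidueField :=
      RingHom.ext hg
    rw [Polynomial.aeval_def] at hP
    rw [← hP]
    exact congrArg (fun g => P.eval₂ g x) this

/-- Finite étale algebras over a strictly henselian local ring are split. -/
theorem exists_split (K : Type u) [CommRing K] [HenselianLocalRing K] [IsSepClosed (ResidueField K)]
    (C : Type u) [CommRing C] [Algebra K C] [Module.Finite K C] [Algebra.Etale K C] :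
    ∃ d : ℕ, Nonempty (C ≃ₐ[K] (Fin d → K)) := by
  let k := ResidueField K
  let D := k ⊗[K] C
  have : Algebra.FormallyEtale k D := inferInstance
  have : Algebra.EssFiniteType k D := inferInstance
  have hfin := Algebra.FormallyUnramified.finite_of_free k D
  have hart : IsArtinianRing D := isArtinian_of_tower k inferInstance
  let e1 : D ≃ₐ[k] (PrimeSpectrum D → k) := Algebra.FormallyEtale.equivPiOfIsSepClosed k D
  have hfs : Finite (PrimeSpectrum D) := inferInstance
  let d := Nat.card (PrimeSpectrum D)
  let e2 : PrimeSpectrum D ≃ Fin d := Finite.equivFin _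
  let e3 : (PrimeSpectrum D → k) ≃ₐ[k] (Fin d → k) := AlgEquiv.piCongrLeft k (fun _ : Fin d => k) e2
  let e4 : k ⊗[K] (Fin d → K) ≃ₐ[k] (Fin d → k) := Algebra.TensorProduct.piScalarRight K k k (Fin d)
  have : Algebra.Etale K (Fin d → K) := inferInstance
  exact ⟨d, K143.EssEt.nonempty_algEquiv K C (Fin d → K) ((e1.trans e3).trans e4.symm)⟩

/-- **Abhyankar splitting** over a strictly henselian regular local ring of residue characteristic zero. -/
theorem split_strict (A : Type u) [CommRing A] [IsRegularLocalRing A] [HenselianLocalRing A]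
    [IsSepClosed (ResidueField A)] [CharZero (ResidueField A)] {r : ℕ} (f : Fin r → A)
    (hm : ∀ i, f i ∈ maximalIdeal A)
    (hf : LinearIndependent (ResidueField A) (fun i => (maximalIdeal A).toCotangent ⟨f i, hm i⟩))
    (E : Type u) [CommRing E] [Algebra A E] [Module.Finite A E]
    (hE : Algebra.Etale (Localization.Away (∏ i, f i)) (Localization.Away (∏ i, f i) ⊗[A] E)) :
    ∃ (n : ℕ) (_ : 1 ≤ n) (d : ℕ) (φ : Fin d → (E →ₐ[A] kummerAlg A f (fun _ => n))),
      ∀ x : E, (∀ j, φ j x = 0) → ∃ N : ℕ, (∏ i, f i) ^ N • x = 0 := by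
  have hdomA : IsDomain A := Groth.Agent.CurvesC.RegNormal.isDomain A
  have hprime := Groth.Agent.Sga1.AbhMixCore.isPrime_span f hm hf
  have hf0 : ∀ i, f i ≠ 0 := Groth.Agent.Sga1.KummerFinite.ne_zero_of_linearIndependent f hm hf
  have hdvr : ∀ i, IsDiscreteValuationRing (Localization.AtPrime (Ideal.span {f i})) := fun i =>
    (Groth.Agent.Sga1.AbhMixCore.isDVR_atPrime (f i) (hf0 i)).1
  let B := Localization.Away (∏ i, f i) ⊗[A] E
  have htame : SGA1.IsTameAlong f (algebraMap A B) := tameAlong A B f hf0 hdvr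
  obtain ⟨n, hn, -, hn2⟩ := Groth.Agent.Sga1.AbhExp.exists_exponent A f hm B htame (by
    intro p hp hchar
    have h0 : p = 0 := CharP.eq (ResidueField A) hchar (CharP.ofCharZero _)
    exact absurd h0 hp.ne_zero)
  obtain ⟨C, _, _, hCfin, hCet, ⟨e⟩⟩ := Groth.Agent.Sga1.AbhMain.alg_main A f hm hf B htame (fun _ => n)
    (fun _ => hn) hn2
  let K := kummerAlg A f (fun _ => n)
  have hKreg : IsRegularLocalRing K := Groth.Agent.Sga1.KummerReg.isRegularLocalRing f (fun _ => n) hm hf (fun _ => hn)
  have hKdom : IsDomain K := Groth.Agent.CurvesC.RegNormal.isDomain K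
  have hKic : IsIntegrallyClosed K := Groth.Agent.CurvesC.RegNormal.isIntegrallyClosed K
  have hKfin : Module.Finite A K := Groth.Agent.Sga1.Kummer.finite f (fun _ => n) (fun _ => hn)
  have hKhens : HenselianLocalRing K := Groth.Agent.S0505.result A K
  have hKsep : IsSepClosed (ResidueField K) :=
    Groth.Agent.Sga1.KummerFinite.isSepClosed_residueField_kummerAlg A f hm (fun _ => n) (fun _ => hn)
  have hAK : Function.Injective (algebraMap A K) := Groth.Agent.Sga1.AbhLocal.injective_kummer A f (fun _ => n) (fun _ => hn)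
  obtain ⟨d, ⟨s⟩⟩ := exists_split K C
  let F : A := ∏ i, f i
  have hF0 : F ≠ 0 := Finset.prod_ne_zero_iff.mpr fun i _ => hf0 i
  let Q := Localization.Away (algebraMap A K F)
  have hFK : algebraMap A K F ≠ 0 := (map_ne_zero_iff _ hAK).mpr hF0
  have hle : Submonoid.powers (algebraMap A K F) ≤ nonZeroDivisors K :=
    powers_le_nonZeroDivisors_of_noZeroDivisors hFK
  have hKQ : Function.Injective (algebraMap K Q) := IsLocalization.injective Q hle
  let e3 : Q ⊗[K] C ≃ₐ[Q] (Fin d → Q) :=
    (Algebra.TensorProduct.congr (AlgEquiv.refl : Q ≃ₐ[Q] Q) s).trans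
      (Algebra.TensorProduct.piScalarRight K Q Q (Fin d))
  let e4 : Q ⊗[A] B ≃ₐ[Q] (Fin d → Q) := e.symm.trans e3
  let inc : E →ₐ[A] Q ⊗[A] B := (Algebra.TensorProduct.includeRight : B →ₐ[A] Q ⊗[A] B).comp
    (Algebra.TensorProduct.includeRight : E →ₐ[A] B)
  let ρ : Fin d → (E →ₐ[A] Q) := fun j =>
    (((Pi.evalAlgHom Q (fun _ : Fin d => Q) j).comp e4.toAlgHom).restrictScalars A).comp inc
  let ιK : K →ₐ[A] Q := IsScalarTower.toAlgHom A K Q
  have hιK : Function.Injective ιK := hKQ
  have hρ : ∀ j x, ρ j x ∈ ιK.range := by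
    intro j x
    have h1 : IsIntegral A (ρ j x) := (Algebra.IsIntegral.isIntegral (R := A) x).map (ρ j)
    have h2 : IsIntegral K (ρ j x) := h1.tower_top
    let Ω := FractionRing K
    let : Algebra Q Ω := (IsLocalization.map (M := Submonoid.powers (algebraMap A K F))
      (T := nonZeroDivisors K) (S := Q) Ω (RingHom.id K) hle).toAlgebra
    have htQ : IsScalarTower K Q Ω := IsScalarTower.of_algebraMap_eq fun x =>
      (IsLocalization.map_eq (M := Submonoid.powers (algebraMap A K F)) (T := nonZeroDivisors K)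
        (S := Q) (Q := Ω) (g := RingHom.id K) hle x).symm
    have h3 : IsIntegral K (algebraMap Q Ω (ρ j x)) := h2.map (IsScalarTower.toAlgHom K Q Ω)
    obtain ⟨y, hy⟩ := IsIntegrallyClosed.isIntegral_iff.1 h3
    refine ⟨y, ?_⟩
    have hQΩ : Function.Injective (algebraMap Q Ω) := by
      rw [injective_iff_map_eq_zero]
      intro q hq
      obtain ⟨a, t, rfl⟩ := IsLocalization.exists_mk'_eq (Submonoid.powers (algebraMap A K F)) q
      have h4 : algebraMap K Ω a = 0 := by
        rw [IsScalarTower.algebraMap_apply K Q Ω, ← IsLocalization.mk'_spec Q a t, map_mul, hq, zero_mul]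
      have h5 : a = 0 := (injective_iff_map_eq_zero (algebraMap K Ω)).1 (IsFractionRing.injective K Ω) a h4
      rw [h5, IsLocalization.mk'_zero]
    apply hQΩ
    change algebraMap Q Ω (algebraMap K Q y) = _
    rw [← IsScalarTower.algebraMap_apply K Q Ω]
    exact hy
  let φ : Fin d → (E →ₐ[A] K) := fun j =>
    (AlgEquiv.ofInjective ιK hιK).symm.toAlgHom.comp ((ρ j).codRestrict ιK.range (hρ j))
  have hφ : ∀ j x, algebraMap K Q (φ j x) = ρ j x := by
    intro j x
    have h1 := AlgEquiv.apply_symm_apply (AlgEquiv.ofInjective ιK hιK) ((ρ j).codRestrict ιK.range (hρ j) x)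
    exact congrArg Subtype.val h1
  refine ⟨n, hn, d, φ, fun x hx => ?_⟩
  have h1 : ∀ j, ρ j x = 0 := fun j => by rw [← hφ, hx j, map_zero]
  have h2 : e4 (inc x) = 0 := funext fun j => h1 j
  have h3 : inc x = 0 := (map_eq_zero_iff e4 e4.injective).1 h2
  have hflat1 : Module.Flat (Localization.Away (∏ i, f i)) B := inferInstance
  have hflat : Module.Flat A B := Module.Flat.trans A (Localization.Away (∏ i, f i)) B
  have hAQ : Function.Injective (algebraMap A Q) := by
    rw [IsScalarTower.algebraMap_eq A K Q]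
    exact hKQ.comp hAK
  have hinj : Function.Injective (Algebra.TensorProduct.includeRight : B →ₐ[A] Q ⊗[A] B) :=
    Algebra.TensorProduct.includeRight_injective hAQ
  have h4 : (1 : Localization.Away (∏ i, f i)) ⊗ₜ[A] x = 0 := hinj (h3.trans (map_zero _).symm)
  have h5 := (IsLocalizedModule.eq_zero_iff (Submonoid.powers (∏ i, f i))
    (TensorProduct.mk A (Localization.Away (∏ i, f i)) E 1)).1 h4
  obtain ⟨⟨_, N, rfl⟩, hN⟩ := h5
  exact ⟨N, hN⟩

end K852.AbhA
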