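import Groth.Agent.EtDl.K852.AbhD
import Groth.Agent.EtDl.K556.CertDef
import Mathlib.AlgebraicGeometry.PullbackCarrier
import Mathlib.AlgebraicGeometry.Morphisms.UniversallyOpen
import Mathlib.AlgebraicGeometry.Morphisms.Finite

/-!
# Certificates for finite algebras étale over the complement of a strict normal crossings divisor
-/

set_option autoImplicit false
universe u

open CategoryTheory CategoryTheory.Limits AlgebraicGeometry TensorProduct

namespace K852.AbhCert

open K556.CertDef K852.KumDef K852.AbhD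

/-- `Spec` of the structure map -/
noncomputable abbrev sp (R S : Type u) [CommRing R] [CommRing S] [Algebra R S] :
    Spec (CommRingCat.of S) ⟶ Spec (CommRingCat.of R) :=
  Spec.map (CommRingCat.ofHom (algebraMap R S))

theorem etale_sp (R S : Type u) [CommRing R] [CommRing S] [Algebra R S] [h : Algebra.Etale R S] :
    Etale (sp R S) := by
  rw [sp, HasRingHomProperty.Spec_iff (P := @Etale)]
  exact RingHom.etale_algebraMap.2 h

theorem isOpen_range (R S : Type u) [CommRing R] [CommRing S] [Algebra R S] [h : Algebra.Etale R S] :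
    IsOpen (Set.range (sp R S)) := by
  have := etale_sp R S
  exact (sp R S).isOpenMap.isOpen_range

section

variable {R : Type u} [CommRing R] (R' E : Type u) [CommRing R'] [CommRing E] [Algebra R R'] [Algebra R E]

/-- the projection to `Spec E` -/
noncomputable abbrev pE : Spec (CommRingCat.of (R' ⊗[R] E)) ⟶ Spec (CommRingCat.of E) :=
  Spec.map (CommRingCat.ofHom (Algebra.TensorProduct.includeRight : E →ₐ[R] R' ⊗[R] E).toRingHom)

theorem isPullback_pE : IsPullback (sp R' (R' ⊗[R] E)) (pE R' E) (sp R R') (sp R E) :=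
  isPullback_SpecMap_of_isPushout _ _ _ _ (CommRingCat.isPushout_tensorProduct R R' E)

theorem mem_range_pE (x : Spec (CommRingCat.of E)) (h : sp R E x ∈ Set.range (sp R R')) :
    x ∈ Set.range (pE (R := R) R' E) := by
  obtain ⟨y, hy⟩ := h
  obtain ⟨w, -, hw⟩ := Scheme.Pullback.exists_preimage_pullback (f := sp R R') (g := sp R E) y x hy
  refine ⟨(isPullback_pE R' E).isoPullback.inv w, ?_⟩
  rw [← Scheme.Hom.comp_apply, IsPullback.isoPullback_inv_snd]
  exact hw

theorem etale_pE [Algebra.Etale R R'] : Etale (pE (R := R) R' E) :=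
  MorphismProperty.of_isPullback (isPullback_pE R' E) (etale_sp R R')

end

/-- **Certificates for finite algebras étale over the complement of an snc divisor**, given certificates for the
Kummer algebras. -/
theorem cert_finite {R : Type u} [CommRing R] {ι : Type} [Fintype ι] {z : ι → R}
    (hQ : ∀ n : ℕ, 0 < n → IsUnit (n : R)) (h : SNC R z) (E : Type u) [CommRing E]
    [Algebra R E] [Module.Finite R E] [Algebra.Etale R (Localization.Away (algebraMap R E (∏ i, z i)))]
    (V : (Spec (CommRingCat.of R)).Opens)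
    (hV : ∀ x : Spec (CommRingCat.of R), x ∈ V ↔ ∏ i, z i ∉ x.asIdeal)
    (hK : ∀ (R' : Type u) [CommRing R'] [Algebra R R'] [Algebra.Etale R R'] (n : ℕ), 1 ≤ n →
      Cert (Spec (CommRingCat.of (Kum (fun i => algebraMap R R' (z i)) n)))
        (sp R (Kum (fun i => algebraMap R R' (z i)) n) ⁻¹ᵁ V)) :
    Cert (Spec (CommRingCat.of E)) (sp R E ⁻¹ᵁ V) := by
  have key := fun p => abhSplit hQ h E p
  choose R' i1 i2 hR' p' hp' n hn d φ hφ using key
  -- a finite cover
  let U : PrimeSpectrum R → Set (Spec (CommRingCat.of R)) := fun p => Set.range (sp R (R' p))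
  have hU : ∀ p, IsOpen (U p) := fun p => isOpen_range R (R' p)
  have hpU : ∀ p, p ∈ U p := fun p => ⟨p' p, hp' p⟩
  obtain ⟨t, ht⟩ := (isCompact_univ (X := Spec (CommRingCat.of R))).elim_finite_subcover U hU
    (fun p _ => Set.mem_iUnion.2 ⟨p, hpU p⟩)
  let c : Fin (Fintype.card t) ≃ t := (Fintype.equivFin t).symm
  refine Cert.etale _ (fun a => Spec (CommRingCat.of (R' (c a) ⊗[R] E))) (fun a => pE (R' (c a)) E)
    (fun a => etale_pE (R' (c a)) E) (fun a => inferInstance) (fun x => ?_) (fun a => ?_)
  · have h1 := ht (Set.mem_univ (sp R E x))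
    simp only [Set.mem_iUnion] at h1
    obtain ⟨p, hp, hpx⟩ := h1
    refine ⟨c.symm ⟨p, hp⟩, ?_⟩
    have h2 : x ∈ Set.range (pE (R := R) (R' p) E) := mem_range_pE (R' p) E x hpx
    have h3 : ((c (c.symm ⟨p, hp⟩)) : PrimeSpectrum R) = p := by rw [Equiv.apply_symm_apply]
    rw [h3]
    exact h2
  · generalize ((c a : t) : PrimeSpectrum R) = p
    have hcomp : ∀ j, Spec.map (CommRingCat.ofHom (φ p j).toRingHom) ≫ pE (R' p) E ≫ sp R E =
        sp R (Kum (fun i => algebraMap R (R' p) (z i)) (n p)) := by
      intro j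
      rw [← (isPullback_pE (R' p) E).w, sp, sp, sp, ← Spec.map_comp, ← Spec.map_comp, ← CommRingCat.ofHom_comp,
        ← CommRingCat.ofHom_comp]
      congr 2
      have h1 : (φ p j).toRingHom.comp (algebraMap (R' p) (R' p ⊗[R] E)) = algebraMap (R' p) _ :=
        (φ p j).comp_algebraMap
      rw [← RingHom.comp_assoc, h1]
      exact (IsScalarTower.algebraMap_eq R (R' p) (Kum (fun i => algebraMap R (R' p) (z i)) (n p))).symm
    refine Cert.proper _ (fun _ : Fin (d p) => Spec (CommRingCat.of (Kum (fun i => algebraMap R (R' p) (z i)) (n p))))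
      (fun j => Spec.map (CommRingCat.ofHom (φ p j).toRingHom)) (fun j => ?_) (fun x hx => ?_) (fun j => ?_)
    · have hfin : Module.Finite (R' p) (Kum (fun i => algebraMap R (R' p) (z i)) (n p)) :=
        KumDef.finite _ _ (hn p)
      have h1 : ((φ p j).toRingHom.comp (algebraMap (R' p) (R' p ⊗[R] E))).Finite := by
        rw [show (φ p j).toRingHom.comp (algebraMap (R' p) (R' p ⊗[R] E)) = algebraMap (R' p) _ from
          (φ p j).comp_algebraMap]
        exact RingHom.finite_algebraMap.2 hfin
      have h2 : (φ p j).toRingHom.Finite := RingHom.Finite.of_comp_finite h1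
      have h3 : IsFinite (Spec.map (CommRingCat.ofHom (φ p j).toRingHom)) :=
        IsFinite.SpecMap_iff _ |>.2 h2
      infer_instance
    · have h1 : algebraMap R (R' p ⊗[R] E) (∏ i, z i) ∉ x.asIdeal := by
        have h2 : sp R E (pE (R' p) E x) ∈ V := hx
        rw [hV] at h2
        intro h3
        apply h2
        change (Algebra.TensorProduct.includeRight : E →ₐ[R] R' p ⊗[R] E) (algebraMap R E (∏ i, z i)) ∈ x.asIdeal
        rw [AlgHom.commutes]
        exact h3
      obtain ⟨j, Q, hQ'⟩ := hφ p x h1
      exact ⟨j, Q, hQ'⟩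
    · have h1 := hK (R' p) (n p) (hn p)
      rw [← hcomp j] at h1
      exact h1

end K852.AbhCert
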