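import Groth.Agent.EtDl.K852.AbhCert

/-!
# Certificates and finite morphisms étale over the open subset
-/

set_option autoImplicit false
universe u

open CategoryTheory CategoryTheory.Limits AlgebraicGeometry TensorProduct

namespace K852.FiniteStep

open K556.CertDef K852.KumDef K852.AbhD K852.AbhCert

theorem dense_basicOpen {R : Type u} [CommRing R] (F : R) (hF : ∀ a : R, F * a = 0 → a = 0) :
    Dense (PrimeSpectrum.basicOpen F : Set (PrimeSpectrum R)) := by
  have hF' : ∀ (n : ℕ) (a : R), F ^ n * a = 0 → a = 0 := by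
    intro n
    induction n with
    | zero => intro a ha; simpa using ha
    | succ n ih =>
      intro a ha
      apply ih
      apply hF
      rw [← ha]
      ring
  intro x
  rw [PrimeSpectrum.isTopologicalBasis_basic_opens.mem_closure_iff]
  rintro _ ⟨g, rfl⟩ hx
  rw [← Set.not_disjoint_iff_nonempty_inter]
  intro hd
  have h1 : PrimeSpectrum.basicOpen (g * F) = ⊥ := by
    rw [PrimeSpectrum.basicOpen_mul, ← disjoint_iff]
    rw [← TopologicalSpace.Opens.coe_disjoint]
    exact hd
  rw [PrimeSpectrum.basicOpen_eq_bot_iff] at h1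
  obtain ⟨n, hn⟩ := h1
  have h2 : g ^ n = 0 := hF' n _ (by rw [← hn]; ring)
  have h3 : PrimeSpectrum.basicOpen g = ⊥ := (PrimeSpectrum.basicOpen_eq_bot_iff g).2 ⟨n, h2⟩
  have h4 : x ∈ (PrimeSpectrum.basicOpen g : Set (PrimeSpectrum R)) := hx
  rw [h3] at h4
  exact h4

/-- Étale over `V` and `D` dense in the base: the preimage of `V` is in the closure of the preimage of `D`. -/
theorem mem_closure {X Y : Scheme.{u}} (g : X ⟶ Y) (V : Y.Opens) [Etale (g ∣_ V)] (D : Set Y) (hD : Dense D)
    (x : X) (hx : x ∈ g ⁻¹ᵁ V) : x ∈ closure (g ⁻¹' D) := by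
  rw [mem_closure_iff]
  intro O hO hxO
  let O' : Set (g ⁻¹ᵁ V : Scheme.{u}) := (g ⁻¹ᵁ V).ι ⁻¹' O
  have hO' : IsOpen O' := hO.preimage (g ⁻¹ᵁ V).ι.continuous
  have h1 : IsOpen ((g ∣_ V) '' O') := (g ∣_ V).isOpenMap _ hO'
  have h2 : IsOpen (V.ι '' ((g ∣_ V) '' O')) := V.ι.isOpenEmbedding.isOpenMap _ h1
  have h3 : (V.ι '' ((g ∣_ V) '' O')).Nonempty :=
    ⟨_, _, ⟨⟨x, hx⟩, hxO, rfl⟩, rfl⟩
  obtain ⟨y, hyD, hy⟩ := hD.inter_open_nonempty _ h2 h3 |>.imp fun _ h => h.symm
  obtain ⟨_, ⟨w, hw, rfl⟩, rfl⟩ := hy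
  refine ⟨(g ⁻¹ᵁ V).ι w, hw, ?_⟩
  have h4 : g ((g ⁻¹ᵁ V).ι w) = V.ι ((g ∣_ V) w) := by
    rw [← Scheme.Hom.comp_apply, ← Scheme.Hom.comp_apply, morphismRestrict_ι]
  change g ((g ⁻¹ᵁ V).ι w) ∈ D
  rw [h4]
  exact hyD

/-- étale over the localization -/
theorem etale_away {R E : Type u} [CommRing R] [CommRing E] [Algebra R E] (F : R)
    (V : (Spec (CommRingCat.of R)).Opens) (hV : ∀ p : Spec (CommRingCat.of R), F ∉ p.asIdeal → p ∈ V)
    [Etale (sp R E ∣_ V)] : Algebra.Etale R (Localization.Away (algebraMap R E F)) := by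
  let L := Localization.Away (algebraMap R E F)
  let j : Spec (CommRingCat.of L) ⟶ Spec (CommRingCat.of E) := sp E L
  have hj : IsOpenImmersion j := by
    exact AlgebraicGeometry.IsOpenImmersion.of_isLocalization (algebraMap R E F)
  have hr : Set.range j ⊆ Set.range ((sp R E) ⁻¹ᵁ V).ι := by
    rintro _ ⟨y, rfl⟩
    rw [Scheme.Opens.range_ι]
    apply hV
    intro hmem
    have h1 : algebraMap E L (algebraMap R E F) ∈ y.asIdeal := hmem
    exact y.isPrime.ne_top ((Ideal.eq_top_of_isUnit_mem _ h1 (IsLocalization.Away.algebraMap_isUnit _)))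
  let l := IsOpenImmersion.lift ((sp R E) ⁻¹ᵁ V).ι j hr
  have hl : l ≫ ((sp R E) ⁻¹ᵁ V).ι = j := IsOpenImmersion.lift_fac _ _ _
  have hlo : IsOpenImmersion l := by
    have : IsOpenImmersion (l ≫ ((sp R E) ⁻¹ᵁ V).ι) := by rw [hl]; exact hj
    exact IsOpenImmersion.of_comp l ((sp R E) ⁻¹ᵁ V).ι
  have h1 : sp R L = l ≫ (sp R E ∣_ V) ≫ V.ι := by
    rw [morphismRestrict_ι, ← Category.assoc, hl, ← Spec.map_comp]
    congr 1
  have h2 : Etale (sp R L) := by
    rw [h1]
    infer_instance
  rw [sp, HasRingHomProperty.Spec_iff (P := @Etale)] at h2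
  exact RingHom.etale_algebraMap.1 h2

/-- **Finite algebras étale over an open subset containing the complement of an snc divisor.** -/
theorem cert_leaf {R : Type u} [CommRing R] {ι : Type} [Fintype ι] {z : ι → R}
    (hQ : ∀ n : ℕ, 0 < n → IsUnit (n : R)) (h : SNC R z) (E : Type u) [CommRing E]
    [Algebra R E] [Module.Finite R E] (V : (Spec (CommRingCat.of R)).Opens)
    (hV : ∀ x : Spec (CommRingCat.of R), (∀ i, z i ∉ x.asIdeal) → x ∈ V) [hEV : Etale (sp R E ∣_ V)]
    (hK : ∀ (R' : Type u) [CommRing R'] [Algebra R R'] [Algebra.Etale R R'] (n : ℕ), 1 ≤ n →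
      Cert (Spec (CommRingCat.of (Kum (fun i => algebraMap R R' (z i)) n)))
        (sp R (Kum (fun i => algebraMap R R' (z i)) n) ⁻¹ᵁ V)) :
    Cert (Spec (CommRingCat.of E)) (sp R E ⁻¹ᵁ V) := by
  have hVF : ∀ p : Spec (CommRingCat.of R), ∏ i, z i ∉ p.asIdeal → p ∈ V := by
    intro p hp
    exact hV p (fun i hi => hp (Ideal.mem_of_dvd _ (Finset.dvd_prod_of_mem z (Finset.mem_univ i)) hi))
  have hEt := etale_away (E := E) (∏ i, z i) V hVF
  have key := fun p => abhSplit hQ h E p
  choose R' i1 i2 hR' p' hp' n hn d φ hφ using key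
  -- a finite cover
  let U : PrimeSpectrum R → Set (Spec (CommRingCat.of R)) := fun p => Set.range (sp R (R' p))
  have hU : ∀ p, IsOpen (U p) := fun p => isOpen_range R (R' p)
  have hpU : ∀ p, p ∈ U p := fun p => ⟨p' p, hp' p⟩
  obtain ⟨t, ht⟩ := (isCompact_univ (X := Spec (CommRingCat.of R))).elim_finite_subcover U hU
    (fun p _ => Set.mem_iUnion.2 ⟨p, hpU p⟩)
  let c : Fin (Fintype.card t) ≃ t := (Fintype.equivFin t).symm
  refine Cert.etale _ (fun a => Spec (CommRingCat.of (R' (c a) ⊗[R] E))) (fun a => pE (R' (c a)) E)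
    (fun a => etale_pE (R' (c a)) E) (fun a => inferInstance) (fun x => ?_) (fun a => ?_)
  · have h1 := ht (Set.mem_univ (sp R E x))
    simp only [Set.mem_iUnion] at h1
    obtain ⟨p, hp, hpx⟩ := h1
    refine ⟨c.symm ⟨p, hp⟩, ?_⟩
    have h2 : x ∈ Set.range (pE (R := R) (R' p) E) := mem_range_pE (R' p) E x hpx
    have h3 : ((c (c.symm ⟨p, hp⟩)) : PrimeSpectrum R) = p := by rw [Equiv.apply_symm_apply]
    rw [h3]
    exact h2
  · generalize ((c a : t) : PrimeSpectrum R) = p
    have hcomp : ∀ j, Spec.map (CommRingCat.ofHom (φ p j).toRingHom) ≫ pE (R' p) E ≫ sp R E =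
        sp R (Kum (fun i => algebraMap R (R' p) (z i)) (n p)) := by
      intro j
      rw [← (isPullback_pE (R' p) E).w, sp, sp, sp, ← Spec.map_comp, ← Spec.map_comp, ← CommRingCat.ofHom_comp,
        ← CommRingCat.ofHom_comp]
      congr 2
      have h1 : (φ p j).toRingHom.comp (algebraMap (R' p) (R' p ⊗[R] E)) = algebraMap (R' p) _ :=
        (φ p j).comp_algebraMap
      rw [← RingHom.comp_assoc, h1]
      exact (IsScalarTower.algebraMap_eq R (R' p) (Kum (fun i => algebraMap R (R' p) (z i)) (n p))).symm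
    have hfinj : ∀ j, IsFinite (Spec.map (CommRingCat.ofHom (φ p j).toRingHom)) := by
      intro j
      have hfin : Module.Finite (R' p) (Kum (fun i => algebraMap R (R' p) (z i)) (n p)) :=
        KumDef.finite _ _ (hn p)
      have h1 : ((φ p j).toRingHom.comp (algebraMap (R' p) (R' p ⊗[R] E))).Finite := by
        rw [show (φ p j).toRingHom.comp (algebraMap (R' p) (R' p ⊗[R] E)) = algebraMap (R' p) _ from
          (φ p j).comp_algebraMap]
        exact RingHom.finite_algebraMap.2 hfin
      have h2 : (φ p j).toRingHom.Finite := RingHom.Finite.of_comp_finite h1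
      exact IsFinite.SpecMap_iff _ |>.2 h2
    refine Cert.proper _ (fun _ : Fin (d p) => Spec (CommRingCat.of (Kum (fun i => algebraMap R (R' p) (z i)) (n p))))
      (fun j => Spec.map (CommRingCat.ofHom (φ p j).toRingHom)) (fun j => ?_) (fun x hx => ?_) (fun j => ?_)
    · have := hfinj j
      infer_instance
    · -- the union of the images is closed
      let Z : Set (Spec (CommRingCat.of (R' p ⊗[R] E))) :=
        ⋃ j, Set.range (Spec.map (CommRingCat.ofHom (φ p j).toRingHom))
      have hZ : IsClosed Z := isClosed_iUnion_of_finite fun j => by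
        have := hfinj j
        exact (Spec.map (CommRingCat.ofHom (φ p j).toRingHom)).isClosedMap.isClosed_range
      let g := pE (R := R) (R' p) E ≫ sp R E
      have hDZ : g ⁻¹' (PrimeSpectrum.basicOpen (∏ i, z i) : Set (PrimeSpectrum R)) ⊆ Z := by
        intro y hy
        have h1 : algebraMap R (R' p ⊗[R] E) (∏ i, z i) ∉ y.asIdeal := by
          have h2 : ∏ i, z i ∉ (g y).asIdeal := hy
          intro h3
          apply h2
          change (Algebra.TensorProduct.includeRight : E →ₐ[R] R' p ⊗[R] E) (algebraMap R E (∏ i, z i)) ∈ y.asIdeal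
          rw [AlgHom.commutes]
          exact h3
        obtain ⟨j, Q, hQ'⟩ := hφ p y h1
        exact Set.mem_iUnion.2 ⟨j, Q, hQ'⟩
      have het : Etale (g ∣_ V) := by
        have h1 := etale_pE (R := R) (R' p) E
        rw [show g ∣_ V = pE (R := R) (R' p) E ∣_ (sp R E ⁻¹ᵁ V) ≫ sp R E ∣_ V from
          morphismRestrict_comp _ _ _]
        have h2 : Etale (pE (R := R) (R' p) E ∣_ (sp R E ⁻¹ᵁ V)) := IsZariskiLocalAtTarget.restrict h1 _
        exact MorphismProperty.comp_mem @Etale _ _ h2 hEV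
      have hdense : Dense (PrimeSpectrum.basicOpen (∏ i, z i) : Set (PrimeSpectrum R)) := by
        apply dense_basicOpen
        have h0 : ∀ s : Finset ι, ∀ a : R, (∏ i ∈ s, z i) * a = 0 → a = 0 := by
          classical
          intro s
          induction s using Finset.induction_on with
          | empty => intro a ha; simpa using ha
          | insert i s hi ih =>
            intro a ha
            rw [Finset.prod_insert hi, mul_assoc] at ha
            apply ih
            have h1 := h.inj ∅ i (Set.notMem_empty i) ((∏ i ∈ s, z i) * a)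
            simp only [Set.image_empty, Ideal.span_empty, Ideal.mem_bot] at h1
            exact h1 ha
        exact h0 Finset.univ
      have hx' : x ∈ g ⁻¹ᵁ V := hx
      have hxZ : x ∈ Z := by
        have h1 := mem_closure g V _ hdense x hx'
        exact hZ.closure_subset_iff.2 hDZ h1
      exact Set.mem_iUnion.1 hxZ
    · have h1 := hK (R' p) (n p) (hn p)
      rw [← hcomp j] at h1
      exact h1

/-- base change of étaleness over an open subset -/
theorem etale_restrict_snd {X X1 Y : Scheme.{u}} (g : X1 ⟶ X) (f : Y ⟶ X) (V : X.Opens) [hV : Etale (g ∣_ V)] :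
    Etale (pullback.snd g f ∣_ (f ⁻¹ᵁ V)) := by
  have h1 := (isPullback_morphismRestrict (pullback.snd g f) (f ⁻¹ᵁ V)).flip
  have h2 : IsPullback (pullback.fst g f) (pullback.snd g f) g f := IsPullback.of_hasPullback g f
  have h3 := h1.paste_horiz h2
  have h4 := (isPullback_morphismRestrict g V).flip
  rw [← morphismRestrict_ι f V] at h3
  let l := h4.lift ((pullback.snd g f ⁻¹ᵁ (f ⁻¹ᵁ V)).ι ≫ pullback.fst g f)
    ((pullback.snd g f ∣_ (f ⁻¹ᵁ V)) ≫ (f ∣_ V)) (by rw [h3.w, Category.assoc])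
  have hl1 : l ≫ (g ⁻¹ᵁ V).ι = (pullback.snd g f ⁻¹ᵁ (f ⁻¹ᵁ V)).ι ≫ pullback.fst g f := h4.lift_fst _ _ _
  have hl2 : l ≫ (g ∣_ V) = (pullback.snd g f ∣_ (f ⁻¹ᵁ V)) ≫ (f ∣_ V) := h4.lift_snd _ _ _
  rw [← hl1] at h3
  have h5 : IsPullback l (pullback.snd g f ∣_ (f ⁻¹ᵁ V)) (g ∣_ V) (f ∣_ V) := IsPullback.of_right h3 hl2 h4
  exact MorphismProperty.of_isPullback h5 hV

/-- `Cert` is invariant under isomorphisms -/
theorem cert_of_iso {X Y : Scheme.{u}} (e : Y ⟶ X) [IsIso e] (V : X.Opens) (h : Cert Y (e ⁻¹ᵁ V)) : Cert X V :=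
  Cert.etale V (fun _ : Fin 1 => Y) (fun _ => e) (fun _ => inferInstance) (fun _ => inferInstance)
    (fun x => ⟨0, by
      obtain ⟨y, hy⟩ := e.surjective x
      exact ⟨y, hy⟩⟩) (fun _ => h)

/-- **Finite step**, given the snc property of Kummer algebras and étale invariance. -/
theorem finite_step_of
    (hEt : ∀ (R R' : Type u) [CommRing R] [CommRing R'] [Algebra R R'] [Algebra.Etale R R'] {ι : Type} [Finite ι]
      (z : ι → R), SNC R z → SNC R' (fun i => algebraMap R R' (z i)))
    (hKum : ∀ (R : Type u) [CommRing R] {ι : Type} [Finite ι] (z : ι → R) (n : ℕ), 1 ≤ n →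
      (∀ n : ℕ, 0 < n → IsUnit (n : R)) → SNC R z → SNC (Kum z n) (T z n))
    (X : Scheme.{u}) (V : X.Opens) (h : Cert X V) :
    ∀ (X1 : Scheme.{u}) (_ : X ⟶ Spec (CommRingCat.of (ULift.{u} ℚ))) (g : X1 ⟶ X) [IsFinite g] [Etale (g ∣_ V)],
      Cert X1 (g ⁻¹ᵁ V) := by
  induction h with
  | @leaf R _ ι _ z h V hV =>
    intro X1 hX g hg hgV
    have := Fintype.ofFinite ι
    have hQ : ∀ n : ℕ, 0 < n → IsUnit (n : R) := by
      intro n hn
      have h1 : IsUnit (n : ULift.{u} ℚ) := by
        have h2 : IsUnit (n : ℚ) := isUnit_iff_ne_zero.2 (Nat.cast_ne_zero.2 hn.ne')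
        have h3 := h2.map (ULift.ringEquiv (R := ℚ)).symm
        rwa [map_natCast] at h3
      have h4 := h1.map (Spec.preimage hX).hom
      rwa [map_natCast] at h4
    have haff : IsAffine X1 := isAffine_of_isAffineHom g
    let E : Type u := Γ(X1, ⊤)
    let a : R →+* E := (Spec.preimage (X1.isoSpec.inv ≫ g)).hom
    let _ : Algebra R E := a.toAlgebra
    have hg2 : X1.isoSpec.inv ≫ g = sp R E := by
      rw [sp]
      exact (Spec.map_preimage (X1.isoSpec.inv ≫ g)).symm
    have hfin : Module.Finite R E := by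
      have h1 : IsFinite (sp R E) := by
        rw [← hg2]
        infer_instance
      exact RingHom.finite_algebraMap.1 ((IsFinite.SpecMap_iff _).1 h1)
    have hE : Etale (sp R E ∣_ V) := by
      rw [← hg2, morphismRestrict_comp]
      have h2 : Etale (X1.isoSpec.inv ∣_ (g ⁻¹ᵁ V)) :=
        IsZariskiLocalAtTarget.restrict (P := @Etale) (inferInstance : Etale X1.isoSpec.inv) _
      exact MorphismProperty.comp_mem @Etale _ _ h2 hgV
    apply cert_of_iso X1.isoSpec.inv
    rw [← Scheme.Hom.comp_preimage, hg2]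
    apply cert_leaf hQ h E V hV
    intro R' _ _ _ n hn
    have hQ' : ∀ n : ℕ, 0 < n → IsUnit (n : R') := fun n hn => by
      have h1 := (hQ n hn).map (algebraMap R R')
      rwa [map_natCast] at h1
    refine Cert.leaf (Kum (fun i => algebraMap R R' (z i)) n) (T _ n) (hKum R' _ n hn hQ' (hEt R R' z h)) _ ?_
    intro p hp
    apply hV
    intro i hi
    apply hp i
    have h1 : algebraMap R (Kum (fun i => algebraMap R R' (z i)) n) (z i) ∈ p.asIdeal := hi
    rw [IsScalarTower.algebraMap_apply R R' (Kum (fun i => algebraMap R R' (z i)) n),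
      ← T_pow (fun i => algebraMap R R' (z i)) n i] at h1
    exact p.isPrime.mem_of_pow_mem _ h1
  | @etale X V k Y f h1 h2 h3 h ih =>
    intro X1 hX g hg hgV
    refine Cert.etale _ (fun a => pullback g (f a)) (fun a => pullback.fst g (f a)) (fun a => ?_) (fun a => ?_)
      (fun x => ?_) (fun a => ?_)
    · have := h1 a
      infer_instance
    · have := h2 a
      infer_instance
    · obtain ⟨a, y, hy⟩ := h3 (g x)
      obtain ⟨w, hw, -⟩ := Scheme.Pullback.exists_preimage_pullback (f := g) (g := f a) x y hy.symm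
      exact ⟨a, w, hw⟩
    · rw [← Scheme.Hom.comp_preimage, pullback.condition, Scheme.Hom.comp_preimage]
      have := etale_restrict_snd g (f a) V
      exact ih a (pullback g (f a)) (f a ≫ hX) (pullback.snd g (f a))
  | @proper X V k Y f h1 h3 h ih =>
    intro X1 hX g hg hgV
    refine Cert.proper _ (fun a => pullback g (f a)) (fun a => pullback.fst g (f a)) (fun a => ?_)
      (fun x hx => ?_) (fun a => ?_)
    · have := h1 a
      infer_instance
    · obtain ⟨a, y, hy⟩ := h3 (g x) hx
      obtain ⟨w, hw, -⟩ := Scheme.Pullback.exists_preimage_pullback (f := g) (g := f a) x y hy.symm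
      exact ⟨a, w, hw⟩
    · rw [← Scheme.Hom.comp_preimage, pullback.condition, Scheme.Hom.comp_preimage]
      have := etale_restrict_snd g (f a) V
      exact ih a (pullback g (f a)) (f a ≫ hX) (pullback.snd g (f a))

end K852.FiniteStep
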